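import Mathlib

/-!
Orbit sizes prime to `p` for normal subgroups and for extensions by `p'`-groups.
-/

set_option autoImplicit false

namespace Cfsg.Agent.H79

open Subgroup MulAction

variable {G : Type*} [Group G] [Finite G]

theorem card_mul_relIndex_swap (S K : Subgroup G) :
    Nat.card (S ⊓ K : Subgroup G) * S.relIndex K = Nat.card K := by
  have h := Subgroup.card_mul_index (S.subgroupOf K)
  have e : Nat.card (S.subgroupOf K) = Nat.card (S ⊓ K : Subgroup G) := by
    rw [← Subgroup.inf_subgroupOf_right]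
    exact Nat.card_congr (Subgroup.subgroupOfEquivOfLe inf_le_right).toEquiv
  rw [e] at h
  exact h

theorem relIndex_normal_dvd_index (S K : Subgroup G) [K.Normal] : S.relIndex K ∣ S.index := by
  have h1 := card_mul_relIndex_swap S K
  have h2 := card_mul_relIndex_swap K S
  have h3 := card_mul_relIndex_swap K (S ⊔ K)
  have h4 := card_mul_relIndex_swap S (S ⊔ K)
  rw [inf_eq_left.2 le_sup_right, Subgroup.relIndex_sup_right] at h3
  rw [inf_eq_left.2 le_sup_left] at h4
  rw [inf_comm] at h2
  have hpos : 0 < Nat.card S := Nat.card_pos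
  have : Nat.card S * S.relIndex (S ⊔ K) = Nat.card S * S.relIndex K := by
    rw [h4, ← h3, ← h1, ← h2]; ring
  rw [← Nat.eq_of_mul_eq_mul_left hpos this]
  exact ⟨_, (Subgroup.relIndex_mul_index le_sup_left).symm⟩

theorem not_dvd_relIndex_of_normalized {p : ℕ} (hp : p.Prime) (S H K : Subgroup G)
    (hKH : K ≤ H) (hn : H ≤ Subgroup.normalizer (K : Set G)) (h : ¬ p ∣ S.relIndex H) :
    ¬ p ∣ S.relIndex K := by
  haveI : (K.subgroupOf H).Normal := (Subgroup.normal_subgroupOf_iff_le_normalizer hKH).2 hn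
  have := relIndex_normal_dvd_index (S.subgroupOf H) (K.subgroupOf H)
  rw [Subgroup.relIndex_subgroupOf hKH] at this
  exact fun hd => h (hd.trans this)

theorem not_dvd_relIndex_sup {p : ℕ} (hp : p.Prime) (S H N : Subgroup G)
    (hN : ¬ p ∣ Nat.card N) (hn : H ≤ Subgroup.normalizer (N : Set G))
    (h : ¬ p ∣ S.relIndex H) : ¬ p ∣ S.relIndex (N ⊔ H) := by
  haveI := Fact.mk hp
  have hS : (S ⊓ H : Subgroup G) ≤ N ⊔ H := inf_le_right.trans le_sup_right
  have h1 : (S ⊓ H).relIndex (N ⊔ H) = (S ⊓ H).relIndex H * H.relIndex (N ⊔ H) :=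
    (Subgroup.relIndex_mul_relIndex (S ⊓ H) H (N ⊔ H) inf_le_right le_sup_right).symm
  have h2 : S.relIndex (N ⊔ H) ∣ (S ⊓ H).relIndex (N ⊔ H) := by
    rw [← Subgroup.inf_relIndex_right S (N ⊔ H)]
    exact Subgroup.relIndex_dvd_of_le_left (N ⊔ H) (le_inf inf_le_left hS)
  have h3 : H.relIndex (N ⊔ H) ∣ Nat.card N := by
    haveI : (N.subgroupOf (N ⊔ H)).Normal :=
      (Subgroup.normal_subgroupOf_iff_le_normalizer le_sup_left).2
        (sup_le Subgroup.le_normalizer hn)
    have hc := card_mul_relIndex_swap H (N ⊔ H)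
    rw [inf_eq_left.2 le_sup_right] at hc
    have hNH := card_mul_relIndex_swap N (N ⊔ H)
    rw [inf_eq_left.2 le_sup_left] at hNH
    have hr : N.relIndex (N ⊔ H) = N.relIndex H := by
      have key := Subgroup.relIndex_sup_left (H := H.subgroupOf (N ⊔ H))
        (K := N.subgroupOf (N ⊔ H))
      rw [← Subgroup.subgroupOf_sup le_sup_left le_sup_right,
        Subgroup.relIndex_subgroupOf le_rfl, Subgroup.relIndex_subgroupOf le_sup_right] at key
      exact key
    have hH := card_mul_relIndex_swap N H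
    rw [hr] at hNH
    have hpos : 0 < N.relIndex H := Nat.pos_of_ne_zero Subgroup.index_ne_zero_of_finite
    have : Nat.card (N ⊓ H : Subgroup G) * H.relIndex (N ⊔ H) = Nat.card N :=
      Nat.eq_of_mul_eq_mul_right hpos (by rw [hNH, ← hc, ← hH]; ring)
    exact ⟨_, this.symm.trans (mul_comm _ _)⟩
  intro hd
  have := hd.trans h2
  rw [h1, Subgroup.inf_relIndex_right] at this
  rcases hp.dvd_mul.1 this with hh | hh
  · exact h hh
  · exact hN (hh.trans h3)

/-- The size of an orbit of a subgroup as a relative index. -/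
theorem natCard_orbit_eq_relIndex {X : Type*} [MulAction G X] (K : Subgroup G) (v : X) :
    Nat.card {u : X | ∃ k ∈ K, k • v = u} = (stabilizer G v).relIndex K := by
  have e : {u : X | ∃ k ∈ K, k • v = u} = orbit K v := by
    ext u
    constructor
    · rintro ⟨k, hk, rfl⟩
      exact ⟨⟨k, hk⟩, rfl⟩
    · rintro ⟨k, rfl⟩
      exact ⟨k, k.2, rfl⟩
  rw [e, Nat.card_coe_set_eq, ← index_stabilizer]
  exact congrArg Subgroup.index (by ext k; rfl)

end Cfsg.Agent.H79
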