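import Mathlib

/-!
The conjugation representation on a normal elementary abelian subgroup, as a map to a general
linear group.
-/

set_option autoImplicit false

namespace Cfsg.Agent.H79

theorem exists_hom_gl_aux {H : Type*} [Group H] {V : Type*} [AddCommGroup V] [Finite V] (p e : ℕ)
    [Fact p.Prime] [Module (ZMod p) V] (hcard : Nat.card V = p ^ e)
    (ρ : H →* AddMonoid.End V) :
    ∃ φ : H →* GL (Fin e) (ZMod p), ∀ h, φ h = 1 ↔ ρ h = 1 := by
  haveI : Module.Finite (ZMod p) V := Module.Finite.of_finite
  have hdim : Module.finrank (ZMod p) V = e := by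
    have h : Nat.card V = Nat.card (ZMod p) ^ Module.finrank (ZMod p) V :=
      Module.natCard_eq_pow_finrank
    rw [Nat.card_zmod, hcard] at h
    exact (Nat.pow_right_injective (Fact.out : p.Prime).two_le h).symm
  let b := Module.finBasisOfFinrankEq (ZMod p) V hdim
  let L : H →* Module.End (ZMod p) V :=
    { toFun := fun h => AddMonoidHom.toZModLinearMap p (ρ h)
      map_one' := by rw [map_one]; rfl
      map_mul' := fun a c => by rw [map_mul]; rfl }
  let M : H →* Matrix (Fin e) (Fin e) (ZMod p) :=
    ((LinearMap.toMatrixAlgEquiv b).toAlgHom.toRingHom.toMonoidHom).comp L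
  refine ⟨M.toHomUnits, fun h => ?_⟩
  constructor
  · intro hh
    have h1 : M h = 1 := congrArg Units.val hh
    have h2 : L h = 1 := by
      apply (LinearMap.toMatrixAlgEquiv b).injective
      rw [map_one]; exact h1
    exact AddMonoidHom.ext fun v => congrArg (fun f : Module.End (ZMod p) V => f v) h2
  · intro hh
    apply Units.ext
    show M h = 1
    have h2 : L h = 1 := LinearMap.ext fun v => congrArg (fun f : AddMonoid.End V => f v) hh
    show LinearMap.toMatrixAlgEquiv b (L h) = 1
    rw [h2, map_one]

/-- Conjugation on a normal elementary abelian subgroup of order `p ^ e` maps into `GL_e(p)` with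
kernel the centraliser. -/
theorem exists_conj_hom_gl {H : Type*} [Group H] (V : Subgroup H) [V.Normal] [Finite V] (p e : ℕ)
    [Fact p.Prime] (hc : ∀ a ∈ V, ∀ b ∈ V, a * b = b * a) (hexp : ∀ a ∈ V, a ^ p = 1)
    (hcard : Nat.card V = p ^ e) :
    ∃ φ : H →* GL (Fin e) (ZMod p), φ.ker = Subgroup.centralizer (V : Set H) := by
  letI : CommGroup V := { (inferInstance : Group V) with
    mul_comm := fun a b => Subtype.ext (hc a a.2 b b.2) }
  let ρ : H →* AddMonoid.End (Additive V) :=
    { toFun := fun h =>
        { toFun := fun x => Additive.ofMul (MulAut.conjNormal h (Additive.toMul x))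
          map_zero' := by simp
          map_add' := fun x y => by simp }
      map_one' := AddMonoidHom.ext fun x => Additive.toMul.injective (Subtype.ext
        (show (1 : H) * (Additive.toMul x : V) * (1 : H)⁻¹ = (Additive.toMul x : V) by simp))
      map_mul' := fun a b => AddMonoidHom.ext fun x => Additive.toMul.injective (Subtype.ext
        (show a * b * (Additive.toMul x : V) * (a * b)⁻¹
            = a * (b * (Additive.toMul x : V) * b⁻¹) * a⁻¹ by group)) }
  have hp : ∀ x : Additive V, p • x = 0 := fun x => Additive.toMul.injective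
    (Subtype.ext (by simpa using hexp _ (Additive.toMul x).2))
  obtain ⟨φ, hφ⟩ := @exists_hom_gl_aux H _ (Additive V) _ _ p e _
    (AddCommGroup.zmodModule hp) ((Nat.card_congr Additive.toMul).trans hcard) ρ
  refine ⟨φ, ?_⟩
  ext h
  rw [MonoidHom.mem_ker, hφ, Subgroup.mem_centralizer_iff]
  constructor
  · intro hh v hv
    have h1 := congrArg (fun f : AddMonoid.End (Additive V) =>
      ((Additive.toMul (f (Additive.ofMul ⟨v, hv⟩)) : V) : H)) hh
    have h2 : h * v * h⁻¹ = v := h1
    exact (mul_inv_eq_iff_eq_mul.1 h2).symm
  · intro hh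
    refine AddMonoidHom.ext fun x => Additive.toMul.injective (Subtype.ext ?_)
    show h * (Additive.toMul x : V) * h⁻¹ = (Additive.toMul x : V)
    rw [← hh _ (Additive.toMul x).2, mul_inv_cancel_right]

end Cfsg.Agent.H79
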