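import Cfsg.Agent.H79.FiniteModel
import Cfsg.Agent.H79.MatrixEnd

/-!
A certified list of the elements of a fixed-point-free matrix group of order 24 over the field
with 7 elements.
-/

set_option autoImplicit false
set_option maxRecDepth 100000

namespace Cfsg.Agent.H79

/-- The certificate of the group of order 24. -/
def dicycModel : ModelData (Matrix (Fin 4) (Fin 4) (ZMod 7)) 24 2 where
  elt := ![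
    !![1, 0, 0, 0; 0, 1, 0, 0; 0, 0, 1, 0; 0, 0, 0, 1],
    !![0, 0, 0, 6; 0, 0, 1, 0; 1, 0, 0, 0; 0, 1, 0, 0],
    !![0, 5, 0, 0; 2, 0, 0, 0; 0, 0, 0, 3; 0, 0, 4, 0],
    !![0, 6, 0, 0; 1, 0, 0, 0; 0, 0, 0, 6; 0, 0, 1, 0],
    !![0, 0, 3, 0; 0, 0, 0, 3; 0, 5, 0, 0; 2, 0, 0, 0],
    !![0, 0, 5, 0; 0, 0, 0, 5; 0, 3, 0, 0; 4, 0, 0, 0],
    !![3, 0, 0, 0; 0, 3, 0, 0; 0, 0, 5, 0; 0, 0, 0, 5],
    !![0, 0, 6, 0; 0, 0, 0, 6; 0, 6, 0, 0; 1, 0, 0, 0],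
    !![5, 0, 0, 0; 0, 5, 0, 0; 0, 0, 3, 0; 0, 0, 0, 3],
    !![0, 0, 0, 2; 0, 0, 5, 0; 3, 0, 0, 0; 0, 3, 0, 0],
    !![0, 0, 0, 1; 0, 0, 6, 0; 6, 0, 0, 0; 0, 6, 0, 0],
    !![0, 0, 0, 4; 0, 0, 3, 0; 5, 0, 0, 0; 0, 5, 0, 0],
    !![0, 1, 0, 0; 6, 0, 0, 0; 0, 0, 0, 1; 0, 0, 6, 0],
    !![6, 0, 0, 0; 0, 6, 0, 0; 0, 0, 6, 0; 0, 0, 0, 6],
    !![0, 4, 0, 0; 3, 0, 0, 0; 0, 0, 0, 2; 0, 0, 5, 0],
    !![0, 2, 0, 0; 5, 0, 0, 0; 0, 0, 0, 4; 0, 0, 3, 0],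
    !![0, 0, 1, 0; 0, 0, 0, 1; 0, 1, 0, 0; 6, 0, 0, 0],
    !![0, 0, 4, 0; 0, 0, 0, 4; 0, 2, 0, 0; 5, 0, 0, 0],
    !![0, 0, 2, 0; 0, 0, 0, 2; 0, 4, 0, 0; 3, 0, 0, 0],
    !![2, 0, 0, 0; 0, 2, 0, 0; 0, 0, 4, 0; 0, 0, 0, 4],
    !![4, 0, 0, 0; 0, 4, 0, 0; 0, 0, 2, 0; 0, 0, 0, 2],
    !![0, 0, 0, 3; 0, 0, 4, 0; 2, 0, 0, 0; 0, 2, 0, 0],
    !![0, 0, 0, 5; 0, 0, 2, 0; 4, 0, 0, 0; 0, 4, 0, 0],
    !![0, 3, 0, 0; 4, 0, 0, 0; 0, 0, 0, 5; 0, 0, 2, 0]]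
  e := 0
  gen := ![1, 2]
  rmul := ![
    ![1, 2],
    ![3, 4],
    ![5, 6],
    ![7, 8],
    ![6, 9],
    ![8, 10],
    ![11, 12],
    ![13, 11],
    ![9, 14],
    ![15, 16],
    ![12, 17],
    ![14, 18],
    ![16, 19],
    ![10, 15],
    ![17, 0],
    ![18, 20],
    ![0, 21],
    ![20, 22],
    ![19, 1],
    ![22, 23],
    ![21, 3],
    ![23, 5],
    ![2, 7],
    ![4, 13]]
  pows := ![
    [0],
    [0, 1, 3, 7, 13, 10, 12, 16],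
    [0, 2, 6, 12, 19, 23, 13, 15, 20, 3, 8, 14],
    [0, 3, 13, 12],
    [0, 4, 12, 21, 13, 17, 3, 11],
    [0, 5, 12, 22, 13, 18, 3, 9],
    [0, 6, 19, 13, 20, 8],
    [0, 7, 12, 1, 13, 16, 3, 10],
    [0, 8, 20, 13, 19, 6],
    [0, 9, 3, 18, 13, 22, 12, 5],
    [0, 10, 3, 16, 13, 1, 12, 7],
    [0, 11, 3, 17, 13, 21, 12, 4],
    [0, 12, 13, 3],
    [0, 13],
    [0, 14, 8, 3, 20, 15, 13, 23, 19, 12, 6, 2],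
    [0, 15, 6, 3, 19, 14, 13, 2, 20, 12, 8, 23],
    [0, 16, 12, 10, 13, 7, 3, 1],
    [0, 17, 12, 11, 13, 4, 3, 21],
    [0, 18, 12, 9, 13, 5, 3, 22],
    [0, 19, 20],
    [0, 20, 19],
    [0, 21, 3, 4, 13, 11, 12, 17],
    [0, 22, 3, 5, 13, 9, 12, 18],
    [0, 23, 8, 12, 20, 2, 13, 14, 19, 3, 6, 15]]

theorem dicycModel_valid : dicycModel.Valid := by
  unfold ModelData.Valid
  decide +kernel

theorem dicycModel_spectrum :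
    Set.range (orderOf : SemiRep (dicycModel.rep (mvEnd 7 4)) → ℕ) =
      {t | t ∈ [1, 2, 3, 4, 6, 7, 8, 12]} := by
  refine dicycModel_valid.spectrum (mvEnd 7 4) 7 (nsmul_zmod_vec 7 4) [1, 2, 3, 4, 6, 7, 8, 12] (by decide +kernel)
    (by norm_num) (Pi.single 0 1 : Fin 4 → ZMod 7) ?_
  rw [addOrderOf_single_one 7 4 (by norm_num)]
  decide +kernel

theorem dicycModel_solvable : Group.IsSolvable dicycModel.grp :=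
  dicycModel_valid.grp_solvable 2 3 Nat.prime_two (by norm_num) (by norm_num)
    (by decide +kernel)

end Cfsg.Agent.H79
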