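import Cfsg.Agent.H79.FiniteModel
import Cfsg.Agent.H79.MatrixEnd

/-!
A certified list of the elements of a fixed-point-free matrix group of order 240, a double cover
of the symmetric group of degree five, over the field with 7 elements.
-/

set_option autoImplicit false
set_option maxRecDepth 100000

namespace Cfsg.Agent.H79

/-- The certificate of the group of order 240. -/
def doubleSymFiveModel : ModelData (Matrix (Fin 4) (Fin 4) (ZMod 7)) 240 6 where
  elt i := (if i.val < 120 then (if i.val < 60 then (if i.val < 30 then (if i.val < 15 then (if i.val < 7 then (if i.val < 3 then (if i.val < 1 then !![1, 0, 0, 0; 0, 1, 0, 0; 0, 0, 1, 0; 0, 0, 0, 1] else (if i.val < 2 then !![0, 6, 0, 0; 1, 0, 0, 0; 0, 0, 0, 1; 0, 0, 6, 0] else !![3, 2, 1, 0; 5, 3, 0, 1; 4, 4, 5, 5; 3, 4, 2, 5])) else (if i.val < 5 then (if i.val < 4 then !![0, 0, 5, 0; 0, 0, 0, 2; 0, 3, 0, 0; 3, 0, 0, 0] else !![6, 0, 0, 0; 0, 6, 0, 0; 0, 0,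 6, 0; 0, 0, 0, 6]) else (if i.val < 6 then !![2, 4, 0, 6; 3, 2, 1, 0; 3, 4, 2, 5; 3, 3, 2, 2] else !![0, 0, 0, 5; 0, 0, 5, 0; 3, 0, 0, 0; 0, 4, 0, 0]))) else (if i.val < 11 then (if i.val < 9 then (if i.val < 8 then !![2, 4, 0, 1; 3, 2, 6, 0; 4, 3, 2, 5; 4, 4, 2, 2] else !![2, 2, 1, 0; 5, 2, 0, 1; 4, 4, 4, 5; 3, 4, 2, 4]) else (if i.val < 10 then !![0, 3, 1, 4; 3, 0, 4, 6; 1, 1, 6, 1; 1, 6, 1, 1] else !![6, 6, 4, 4; 6, 1, 4, 3; 1, 2, 0, 3; 2, 6, 3, 0])) else (if i.val < 13 then (if i.val < 12 then !![0, 1, 0, 0; 6, 0, 0, 0; 0, 0, 0, 6; 0, 0, 1, 0] else !![4, 5, 6, 0; 2, 4, 0, 6; 3, 3, 2, 2; 4, 3, 5, 2]) else (if i.val < 14 then !![0, 0, 2, 0; 0, 0, 0, 5; 0, 4, 0, 0; 4, 0, 0, 0] else !![4, 5, 1, 0; 2, 4, 0, 1; 4, 4, 2, 2; 3, 4, 5, 2])))) else (if i.val < 22 then (if i.val < 18 then (if i.val < 16 then !![2, 5, 0, 6; 2, 2, 1, 0; 3, 4, 2, 4; 3, 3, 3, 2] else (if i.val < 17 then !![4, 0, 3, 1; 0, 3, 1, 4; 1, 6, 1,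 1; 6, 6, 1, 6] else !![1, 6, 3, 4; 6, 6, 4, 4; 2, 6, 3, 0; 6, 5, 0, 4])) else (if i.val < 20 then (if i.val < 19 then !![1, 6, 4, 2; 1, 1, 5, 4; 1, 3, 3, 3; 4, 1, 4, 3] else !![3, 0, 3, 1; 0, 4, 1, 4; 1, 6, 6, 6; 6, 6, 6, 1]) else (if i.val < 21 then !![2, 5, 0, 1; 2, 2, 6, 0; 4, 3, 2, 4; 4, 4, 3, 2] else !![0, 3, 3, 4; 3, 0, 4, 4; 1, 5, 6, 1; 5, 6, 1, 1]))) else (if i.val < 26 then (if i.val < 24 then (if i.val < 23 then !![3, 1, 6, 0; 1, 4, 0, 1; 0, 5, 5, 1; 5, 0, 1, 2] else !![5, 3, 0, 6; 4, 5, 1, 0; 3, 4, 5, 2; 3, 3, 5, 5]) else (if i.val < 25 then !![6, 1, 3, 4; 1, 1, 4, 4; 2, 6, 4, 0; 6, 5, 0, 3] else !![6, 6, 6, 4; 6, 1, 4, 1; 1, 6, 0, 3; 6, 6, 3, 0])) else (if i.val < 28 then (if i.val < 27 then !![5, 5, 2, 5; 2, 5, 2, 2; 2, 0, 5, 4; 0, 2, 3, 5] else !![5, 3, 0, 1; 4, 5, 6, 0; 4, 3, 5, 2; 4, 4, 5, 5]) else (if i.val < 29 then !![0, 0, 0, 2; 0, 0, 2, 0; 4, 0, 0, 0; 0, 3, 0, 0] else !![5, 5, 6, 0; 2, 5,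 0, 6; 3, 3, 3, 2; 4, 3, 5, 3]))))) else (if i.val < 45 then (if i.val < 37 then (if i.val < 33 then (if i.val < 31 then !![0, 4, 6, 3; 4, 0, 3, 1; 6, 6, 1, 6; 6, 1, 6, 6] else (if i.val < 32 then !![1, 1, 3, 3; 1, 6, 3, 4; 6, 5, 0, 4; 5, 1, 4, 0] else !![6, 6, 2, 3; 1, 6, 4, 2; 4, 1, 4, 3; 6, 4, 4, 4])) else (if i.val < 35 then (if i.val < 34 then !![0, 3, 6, 3; 3, 0, 3, 1; 6, 6, 6, 1; 6, 1, 1, 1] else !![5, 5, 1, 0; 2, 5, 0, 1; 4, 4, 3, 2; 3, 4, 5, 3]) else (if i.val < 36 then !![4, 0, 3, 3; 0, 3, 3, 4; 5, 6, 1, 1; 6, 2, 1, 6] else !![6, 3, 0, 6; 3, 1, 6, 0; 5, 0, 1, 2; 0, 2, 2, 6]))) else (if i.val < 41 then (if i.val < 39 then (if i.val < 38 then !![3, 2, 6, 0; 5, 3, 0, 6; 3, 3, 5, 5; 4, 3, 2, 5] else !![6, 6, 3, 3; 6, 1, 3, 4; 6, 5, 0, 3; 5, 1, 3, 0]) else (if i.val < 40 then !![1, 6, 3, 6; 6, 6, 6, 4; 6, 6, 3, 0; 6, 1, 0, 4] else !![5, 2, 5, 5; 5, 5, 2, 5; 0, 2, 3, 5; 5, 0, 2, 3])) else (if i.val < 43 then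 (if i.val < 42 then !![6, 6, 5, 4; 1, 6, 3, 5; 3, 6, 4, 3; 1, 3, 4, 4] else !![6, 2, 4, 1; 5, 6, 6, 4; 4, 0, 1, 5; 0, 4, 2, 1]) else (if i.val < 44 then !![6, 5, 5, 5; 5, 1, 5, 2; 2, 2, 5, 6; 2, 5, 6, 2] else !![3, 1, 6, 6; 1, 4, 6, 1; 5, 5, 1, 3; 5, 2, 3, 6])))) else (if i.val < 52 then (if i.val < 48 then (if i.val < 46 then !![6, 2, 4, 3; 5, 6, 4, 4; 5, 6, 1, 5; 1, 5, 2, 1] else (if i.val < 47 then !![3, 0, 3, 3; 0, 4, 3, 4; 5, 6, 6, 6; 6, 2, 6, 1] else !![4, 2, 2, 3; 2, 3, 3, 5; 6, 3, 5, 5; 3, 1, 5, 2])) else (if i.val < 50 then (if i.val < 49 then !![5, 2, 0, 6; 5, 5, 1, 0; 3, 4, 5, 3; 3, 3, 4, 5] else !![1, 4, 0, 6; 4, 6, 6, 0; 5, 0, 6, 5; 0, 2, 5, 1]) else (if i.val < 51 then !![3, 5, 5, 3; 5, 4, 3, 2; 6, 4, 6, 0; 4, 1, 0, 1] else !![0, 4, 1, 2; 3, 0, 5, 1; 3, 1, 0, 3; 6, 3, 4, 0]))) else (if i.val < 56 then (if i.val < 54 then (if i.val < 53 then !![6, 1, 3, 5; 6, 6, 2, 3; 6, 4, 4, 4; 3, 6, 3, 4] else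 !![4, 0, 4, 6; 0, 3, 6, 3; 6, 1, 1, 1; 1, 1, 1, 6]) else (if i.val < 55 then !![5, 1, 1, 1; 1, 2, 1, 6; 3, 3, 1, 5; 3, 4, 5, 6] else !![5, 2, 2, 2; 5, 5, 5, 2; 0, 5, 3, 5; 2, 0, 2, 3])) else (if i.val < 58 then (if i.val < 57 then !![6, 1, 3, 6; 1, 1, 6, 4; 6, 6, 4, 0; 6, 1, 0, 3] else !![5, 4, 2, 5; 3, 5, 2, 2; 2, 0, 5, 5; 0, 2, 2, 5]) else (if i.val < 59 then !![0, 4, 4, 5; 3, 0, 2, 4; 3, 5, 0, 3; 2, 3, 4, 0] else !![1, 6, 4, 3; 6, 6, 3, 3; 5, 1, 3, 0; 1, 2, 0, 4])))))) else (if i.val < 90 then (if i.val < 75 then (if i.val < 67 then (if i.val < 63 then (if i.val < 61 then !![5, 2, 0, 1; 5, 5, 6, 0; 4, 3, 5, 3; 4, 4, 4, 5] else (if i.val < 62 then !![3, 0, 4, 6; 0, 4, 6, 3; 6, 1, 6, 6; 1, 1, 6, 1] else !![6, 1, 4, 3; 1, 1, 3, 3; 5, 1, 4, 0; 1, 2, 0, 3])) else (if i.val < 65 then (if i.val < 64 then !![0, 4, 4, 3; 4, 0, 3, 3; 6, 2, 1, 6; 2, 1, 6, 6] else !![4, 6, 1, 0; 6, 3, 0, 6; 0, 2, 2, 6; 2, 0, 6, 5]) else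 (if i.val < 66 then !![1, 1, 1, 3; 1, 6, 3, 6; 6, 1, 0, 4; 1, 1, 4, 0] else !![2, 2, 5, 2; 5, 2, 5, 5; 5, 0, 2, 3; 0, 5, 4, 2]))) else (if i.val < 71 then (if i.val < 69 then (if i.val < 68 then !![6, 1, 4, 2; 6, 6, 5, 4; 1, 3, 4, 4; 4, 1, 3, 4] else !![2, 1, 1, 3; 6, 2, 4, 1; 0, 4, 2, 1; 3, 0, 6, 2]) else (if i.val < 70 then !![2, 6, 2, 5; 6, 5, 5, 5; 2, 5, 6, 2; 5, 5, 2, 1] else !![6, 3, 1, 6; 3, 1, 6, 6; 5, 2, 3, 6; 2, 2, 6, 4])) else (if i.val < 73 then (if i.val < 72 then !![2, 1, 3, 3; 6, 2, 4, 3; 1, 5, 2, 1; 2, 1, 6, 2] else !![0, 3, 4, 3; 3, 0, 3, 3; 6, 2, 6, 1; 2, 1, 1, 1]) else (if i.val < 74 then !![5, 4, 4, 2; 4, 2, 2, 3; 3, 1, 5, 2; 1, 4, 2, 2] else !![2, 2, 6, 0; 5, 2, 0, 6; 3, 3, 4, 5; 4, 3, 2, 4])))) else (if i.val < 82 then (if i.val < 78 then (if i.val < 76 then !![3, 1, 1, 0; 1, 4, 0, 6; 0, 2, 5, 1; 2, 0, 1, 2] else (if i.val < 77 then !![2, 3, 4, 5; 3, 5, 5, 3; 4, 1, 0, 1; 1, 3, 1, 0] else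 !![4, 0, 2, 6; 0, 4, 1, 2; 6, 3, 4, 0; 4, 6, 0, 4])) else (if i.val < 80 then (if i.val < 79 then !![1, 1, 5, 4; 6, 1, 3, 5; 3, 6, 3, 4; 1, 3, 3, 3] else !![0, 4, 1, 4; 4, 0, 4, 6; 1, 1, 1, 6; 1, 6, 6, 6]) else (if i.val < 81 then !![6, 5, 6, 1; 5, 1, 1, 1; 3, 4, 5, 6; 4, 4, 6, 2] else !![2, 2, 2, 5; 5, 2, 2, 2; 2, 0, 2, 3; 0, 2, 4, 2]))) else (if i.val < 86 then (if i.val < 84 then (if i.val < 83 then !![6, 6, 1, 3; 6, 1, 3, 6; 6, 1, 0, 3; 1, 1, 3, 0] else !![4, 2, 5, 5; 5, 4, 2, 5; 0, 2, 2, 5; 5, 0, 2, 2]) else (if i.val < 85 then !![4, 0, 5, 3; 0, 4, 4, 5; 2, 3, 4, 0; 4, 2, 0, 4] else !![1, 1, 4, 4; 1, 6, 4, 3; 1, 2, 0, 4; 2, 6, 4, 0])) else (if i.val < 88 then (if i.val < 87 then !![3, 3, 4, 2; 4, 3, 5, 4; 1, 3, 1, 6; 4, 1, 1, 1] else !![5, 1, 2, 5; 1, 2, 5, 5; 2, 5, 1, 5; 5, 5, 5, 6]) else (if i.val < 89 then !![2, 1, 6, 4; 6, 2, 3, 6; 0, 3, 2, 1; 4, 0, 6, 2] else !![3, 5, 2, 4; 5, 4, 4, 5; 1, 3, 6, 0; 3,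 6, 0, 1]))))) else (if i.val < 105 then (if i.val < 97 then (if i.val < 93 then (if i.val < 91 then !![1, 4, 6, 6; 4, 6, 6, 1; 5, 5, 4, 1; 5, 2, 1, 3] else (if i.val < 92 then !![1, 1, 2, 3; 6, 1, 4, 2; 4, 1, 3, 4; 6, 4, 3, 3] else !![1, 4, 1, 6; 4, 6, 6, 6; 5, 2, 4, 1; 2, 2, 1, 3])) else (if i.val < 95 then (if i.val < 94 then !![0, 1, 3, 5; 1, 0, 5, 4; 4, 6, 2, 4; 6, 3, 4, 5] else !![4, 4, 1, 2; 3, 4, 5, 1; 2, 3, 4, 3; 4, 2, 4, 4]) else (if i.val < 96 then !![2, 1, 4, 4; 6, 2, 3, 4; 6, 2, 2, 1; 5, 6, 6, 2] else !![4, 4, 4, 2; 3, 4, 5, 4; 1, 3, 6, 1; 4, 1, 6, 6]))) else (if i.val < 101 then (if i.val < 99 then (if i.val < 98 then !![2, 5, 2, 4; 5, 5, 4, 5; 1, 3, 4, 5; 3, 6, 5, 3] else !![2, 2, 3, 2; 2, 5, 2, 4; 3, 6, 5, 3; 6, 4, 3, 2]) else (if i.val < 100 then !![2, 3, 4, 2; 3, 5, 2, 3; 3, 1, 2, 5; 1, 4, 5, 5] else !![4, 6, 6, 6; 6, 3, 6, 1; 5, 5, 6, 4; 5, 2, 4, 1])) else (if i.val < 103 then (if i.val < 102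 then !![2, 6, 6, 4; 1, 2, 3, 6; 1, 1, 2, 6; 6, 1, 1, 2] else !![1, 5, 3, 4; 2, 1, 3, 3; 2, 1, 6, 2; 6, 2, 5, 6]) else (if i.val < 104 then !![4, 0, 4, 4; 0, 3, 4, 3; 2, 1, 1, 1; 1, 5, 1, 6] else !![6, 3, 6, 6; 3, 1, 6, 1; 5, 5, 3, 6; 5, 2, 6, 4])))) else (if i.val < 112 then (if i.val < 108 then (if i.val < 106 then !![4, 0, 5, 1; 0, 4, 6, 5; 1, 4, 4, 0; 3, 1, 0, 4] else (if i.val < 107 then !![5, 4, 4, 5; 4, 2, 5, 3; 4, 1, 0, 6; 1, 3, 6, 0] else !![2, 3, 2, 5; 4, 2, 2, 2; 2, 0, 2, 2; 0, 2, 5, 2])) else (if i.val < 110 then (if i.val < 109 then !![6, 3, 0, 1; 3, 1, 1, 0; 2, 0, 1, 2; 0, 5, 2, 6] else !![1, 5, 3, 6; 2, 1, 1, 3; 3, 0, 6, 2; 0, 3, 5, 6]) else (if i.val < 111 then !![1, 2, 2, 2; 2, 6, 2, 5; 5, 5, 2, 1; 5, 2, 1, 5] else !![4, 6, 1, 1; 6, 3, 1, 6; 2, 2, 6, 4; 2, 5, 4, 1]))) else (if i.val < 116 then (if i.val < 114 then (if i.val < 113 then !![1, 2, 6, 1; 2, 6, 1, 1; 3, 4, 2, 1; 4, 4, 1, 5] else !![6,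 0, 5, 4; 0, 1, 4, 2; 1, 4, 4, 5; 4, 6, 5, 3]) else (if i.val < 115 then !![4, 4, 5, 1; 3, 4, 6, 5; 3, 5, 4, 3; 2, 3, 4, 4] else !![4, 2, 5, 4; 2, 3, 4, 2; 1, 4, 5, 5; 4, 6, 5, 2])) else (if i.val < 118 then (if i.val < 117 then !![4, 2, 2, 2; 5, 4, 5, 2; 0, 5, 2, 5; 2, 0, 2, 2] else !![1, 6, 4, 1; 6, 6, 1, 3; 1, 1, 3, 0; 1, 6, 0, 4]) else (if i.val < 119 then !![4, 0, 2, 4; 0, 4, 3, 2; 5, 4, 4, 0; 3, 5, 0, 4] else !![2, 6, 2, 0; 1, 2, 0, 2; 1, 5, 2, 6; 2, 1, 1, 2]))))))) else (if i.val < 180 then (if i.val < 150 then (if i.val < 135 then (if i.val < 127 then (if i.val < 123 then (if i.val < 121 then !![1, 5, 0, 1; 5, 6, 1, 0; 2, 0, 1, 3; 0, 5, 3, 6] else (if i.val < 122 then !![2, 6, 6, 6; 6, 5, 6, 1; 4, 4, 6, 2; 4, 3, 2, 1] else !![2, 5, 5, 5; 2, 2, 2, 5; 0, 2, 4, 2; 5, 0, 5, 4])) else (if i.val < 125 then (if i.val < 124 then !![3, 0, 4, 4; 0, 4, 4, 3; 2, 1, 6, 6; 1, 5, 6, 1] else !![1, 4, 0, 1; 4, 6, 1, 0;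 2, 0, 6, 5; 0, 5, 5, 1]) else (if i.val < 126 then !![6, 1, 4, 1; 1, 1, 1, 3; 1, 1, 4, 0; 1, 6, 0, 3] else !![2, 5, 2, 2; 2, 2, 5, 2; 0, 5, 4, 2; 2, 0, 5, 4]))) else (if i.val < 131 then (if i.val < 129 then (if i.val < 128 then !![3, 5, 5, 4; 5, 4, 4, 2; 1, 4, 2, 2; 4, 6, 2, 5] else !![4, 2, 2, 4; 2, 3, 4, 5; 1, 3, 1, 0; 3, 6, 0, 6]) else (if i.val < 130 then !![0, 3, 6, 5; 4, 0, 2, 6; 4, 6, 0, 4; 1, 4, 3, 0] else !![2, 3, 5, 2; 4, 2, 5, 5; 5, 0, 2, 2; 0, 5, 5, 2])) else (if i.val < 133 then (if i.val < 132 then !![0, 3, 3, 2; 4, 0, 5, 3; 4, 2, 0, 4; 5, 4, 3, 0] else !![3, 4, 2, 3; 3, 3, 4, 2; 4, 1, 1, 1; 6, 4, 6, 1]) else (if i.val < 134 then !![6, 5, 2, 2; 5, 1, 2, 5; 5, 5, 5, 6; 5, 2, 6, 2] else !![1, 5, 4, 1; 2, 1, 6, 4; 4, 0, 6, 2; 0, 4, 5, 6])))) else (if i.val < 142 then (if i.val < 138 then (if i.val < 136 then !![2, 3, 3, 2; 3, 5, 2, 4; 3, 6, 0, 1; 6, 4, 1, 0] else (if i.val < 137 then !![3, 1, 1, 6;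 1, 4, 6, 6; 5, 2, 1, 3; 2, 2, 3, 6] else !![1, 6, 3, 5; 1, 1, 2, 3; 6, 4, 3, 3; 3, 6, 4, 3])) else (if i.val < 140 then (if i.val < 139 then !![3, 1, 1, 1; 1, 4, 1, 6; 2, 2, 1, 3; 2, 5, 3, 6] else !![6, 0, 2, 3; 0, 1, 3, 5; 6, 3, 4, 5; 3, 1, 5, 3]) else (if i.val < 141 then !![4, 3, 2, 6; 4, 4, 1, 2; 4, 2, 4, 4; 5, 4, 3, 4] else !![1, 5, 4, 3; 2, 1, 4, 4; 5, 6, 6, 2; 1, 5, 5, 6]))) else (if i.val < 146 then (if i.val < 144 then (if i.val < 143 then !![4, 3, 2, 3; 4, 4, 4, 2; 4, 1, 6, 6; 6, 4, 1, 6] else !![5, 2, 5, 3; 2, 2, 3, 2; 6, 4, 3, 2; 4, 1, 2, 4]) else (if i.val < 145 then !![6, 5, 4, 1; 2, 6, 6, 4; 6, 1, 1, 2; 6, 6, 5, 1] else !![5, 6, 4, 4; 1, 5, 3, 4; 6, 2, 5, 6; 5, 6, 1, 5])) else (if i.val < 148 then (if i.val < 147 then !![0, 4, 3, 4; 4, 0, 4, 4; 1, 5, 1, 6; 5, 6, 6, 6] else !![4, 6, 1, 6; 6, 3, 6, 6; 5, 2, 6, 4; 2, 2, 4, 1]) else (if i.val < 149 then !![0, 3, 1, 2; 4, 0, 5, 1; 3, 1, 0, 4; 6, 3, 3,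 0] else !![3, 5, 5, 5; 2, 3, 2, 5; 0, 2, 5, 2; 5, 0, 5, 5]))))) else (if i.val < 165 then (if i.val < 157 then (if i.val < 153 then (if i.val < 151 then !![4, 6, 6, 0; 6, 3, 0, 1; 0, 5, 2, 6; 5, 0, 6, 5] else (if i.val < 152 then !![5, 6, 6, 4; 1, 5, 3, 6; 0, 3, 5, 6; 4, 0, 1, 5] else !![5, 1, 5, 2; 1, 2, 2, 2; 5, 2, 1, 5; 2, 2, 5, 6])) else (if i.val < 155 then (if i.val < 154 then !![1, 4, 6, 1; 4, 6, 1, 1; 2, 5, 4, 1; 5, 5, 1, 3] else !![5, 1, 6, 6; 1, 2, 6, 1; 4, 4, 1, 5; 4, 3, 5, 6]) else (if i.val < 156 then !![0, 6, 3, 5; 6, 0, 5, 4; 4, 6, 5, 3; 6, 3, 3, 2] else !![4, 3, 1, 2; 4, 4, 5, 1; 2, 3, 4, 4; 4, 2, 3, 4]))) else (if i.val < 161 then (if i.val < 159 then (if i.val < 158 then !![5, 4, 3, 5; 4, 2, 5, 4; 4, 6, 5, 2; 6, 3, 2, 2] else !![1, 1, 6, 4; 1, 6, 4, 1; 1, 6, 0, 4; 6, 6, 4, 0]) else (if i.val < 160 then !![0, 3, 4, 5; 4, 0, 2, 4; 3, 5, 0, 4; 2, 3, 3, 0] else !![6, 5, 0, 5; 2, 6, 2, 0; 2, 1, 1,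 2; 6, 2, 5, 1])) else (if i.val < 163 then (if i.val < 162 then !![2, 1, 6, 0; 1, 5, 0, 1; 0, 5, 3, 6; 5, 0, 6, 4] else !![1, 2, 1, 6; 2, 6, 6, 6; 4, 3, 2, 1; 3, 3, 1, 5]) else (if i.val < 164 then !![5, 5, 5, 2; 2, 5, 5, 5; 5, 0, 5, 4; 0, 5, 3, 5] else !![3, 4, 5, 4; 3, 3, 3, 5; 3, 6, 1, 1; 1, 3, 6, 1])))) else (if i.val < 172 then (if i.val < 168 then (if i.val < 166 then !![4, 4, 6, 5; 3, 4, 2, 6; 5, 4, 4, 3; 3, 5, 4, 4] else (if i.val < 167 then !![6, 5, 1, 6; 5, 1, 6, 6; 4, 3, 5, 6; 3, 3, 6, 2] else !![5, 4, 3, 2; 4, 2, 2, 4; 3, 6, 0, 6; 6, 4, 6, 0])) else (if i.val < 170 then (if i.val < 169 then !![5, 3, 0, 0; 3, 2, 0, 0; 0, 0, 3, 5; 0, 0, 5, 4] else !![5, 6, 1, 3; 1, 5, 4, 1; 0, 4, 5, 6; 3, 0, 1, 5]) else (if i.val < 171 then !![2, 6, 1, 1; 6, 5, 1, 6; 3, 3, 6, 2; 3, 4, 2, 1] else !![4, 4, 3, 5; 3, 4, 2, 3; 6, 4, 6, 1; 3, 6, 6, 6]))) else (if i.val < 176 then (if i.val < 174 then (if i.val < 173 then !![2,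 6, 5, 2; 6, 5, 2, 2; 5, 2, 6, 2; 2, 2, 2, 1] else !![4, 3, 5, 1; 4, 4, 6, 5; 3, 5, 4, 4; 2, 3, 3, 4]) else (if i.val < 175 then !![1, 0, 2, 3; 0, 6, 3, 5; 6, 3, 3, 2; 3, 1, 2, 4] else !![1, 2, 0, 2; 5, 1, 5, 0; 5, 6, 6, 5; 1, 5, 2, 6])) else (if i.val < 178 then (if i.val < 177 then !![0, 4, 6, 5; 3, 0, 2, 6; 4, 6, 0, 3; 1, 4, 4, 0] else !![6, 3, 6, 1; 3, 1, 1, 1; 2, 5, 3, 6; 5, 5, 6, 4]) else (if i.val < 179 then !![4, 4, 2, 6; 3, 4, 1, 2; 4, 2, 4, 3; 5, 4, 4, 4] else !![5, 5, 3, 2; 5, 2, 2, 4; 3, 6, 2, 4; 6, 4, 4, 5])))))) else (if i.val < 210 then (if i.val < 195 then (if i.val < 187 then (if i.val < 183 then (if i.val < 181 then !![4, 3, 5, 4; 4, 4, 3, 5; 3, 6, 6, 6; 1, 3, 1, 6] else (if i.val < 182 then !![5, 6, 3, 3; 1, 5, 4, 3; 1, 5, 5, 6; 2, 1, 1, 5] else !![2, 5, 5, 3; 5, 5, 3, 2; 6, 4, 4, 5; 4, 1, 5, 3])) else (if i.val < 185 then (if i.val < 184 then !![6, 2, 0, 6; 2, 1, 6, 0; 5, 0, 6, 4; 0, 2, 4, 1]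 else !![6, 2, 3, 4; 5, 6, 3, 3; 2, 1, 1, 5; 6, 2, 2, 1]) else (if i.val < 186 then !![1, 2, 5, 5; 2, 6, 5, 2; 2, 2, 2, 1; 2, 5, 1, 5] else !![6, 5, 3, 6; 2, 6, 1, 3; 1, 6, 1, 2; 1, 1, 5, 1]))) else (if i.val < 191 then (if i.val < 189 then (if i.val < 188 then !![2, 6, 5, 0; 1, 2, 0, 5; 6, 2, 2, 6; 5, 6, 1, 2] else !![3, 3, 3, 5; 4, 3, 2, 3; 6, 4, 1, 6; 3, 6, 1, 1]) else (if i.val < 190 then !![5, 5, 4, 5; 5, 2, 5, 3; 4, 1, 2, 4; 1, 3, 4, 5] else !![5, 6, 6, 0; 6, 2, 0, 1; 0, 5, 4, 1; 5, 0, 1, 3])) else (if i.val < 193 then (if i.val < 192 then !![0, 4, 3, 2; 3, 0, 5, 3; 4, 2, 0, 3; 5, 4, 4, 0] else !![3, 2, 0, 0; 2, 4, 0, 0; 0, 0, 2, 3; 0, 0, 3, 5]) else (if i.val < 194 then !![3, 5, 2, 2; 2, 3, 5, 2; 0, 5, 5, 2; 2, 0, 5, 5] else !![2, 6, 1, 3; 1, 2, 4, 1; 6, 6, 2, 6; 1, 6, 1, 2])))) else (if i.val < 202 then (if i.val < 198 then (if i.val < 196 then !![1, 4, 1, 1; 4, 6, 1, 6; 2, 2, 4, 1; 2, 5, 1, 3] else (if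 i.val < 197 then !![3, 0, 2, 6; 0, 3, 1, 2; 6, 3, 3, 0; 4, 6, 0, 3] else !![4, 2, 5, 3; 2, 3, 3, 2; 6, 4, 1, 0; 4, 1, 0, 6])) else (if i.val < 200 then (if i.val < 199 then !![6, 3, 1, 1; 3, 1, 1, 6; 2, 2, 3, 6; 2, 5, 6, 4] else !![0, 6, 4, 2; 6, 0, 2, 3; 3, 1, 5, 3; 1, 4, 3, 2]) else (if i.val < 201 then !![3, 3, 6, 5; 4, 3, 2, 6; 5, 4, 3, 4; 3, 5, 3, 3] else !![5, 1, 2, 0; 6, 5, 0, 2; 1, 5, 5, 1; 2, 1, 6, 5]))) else (if i.val < 206 then (if i.val < 204 then (if i.val < 203 then !![4, 3, 6, 5; 4, 4, 2, 6; 5, 4, 4, 4; 3, 5, 3, 4] else !![6, 2, 3, 6; 5, 6, 1, 3; 3, 0, 1, 5; 0, 3, 2, 1]) else (if i.val < 205 then !![3, 1, 6, 1; 1, 4, 1, 1; 2, 5, 1, 3; 5, 5, 3, 6] else !![2, 3, 3, 5; 3, 5, 5, 4; 4, 6, 2, 5; 6, 3, 5, 5])) else (if i.val < 208 then (if i.val < 207 then !![5, 1, 6, 4; 6, 5, 3, 6; 1, 1, 5, 1; 6, 1, 6, 5] else !![1, 2, 4, 1; 5, 1, 6, 4; 6, 1, 6, 5; 6, 6, 2, 6]) else (if i.val < 209 then !![3, 5, 2, 3;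 5, 4, 3, 5; 6, 3, 2, 2; 3, 1, 2, 5] else !![6, 5, 0, 2; 2, 6, 5, 0; 5, 6, 1, 2; 1, 5, 5, 1]))))) else (if i.val < 225 then (if i.val < 217 then (if i.val < 213 then (if i.val < 211 then !![3, 0, 5, 3; 0, 3, 4, 5; 2, 3, 3, 0; 4, 2, 0, 3] else (if i.val < 212 then !![3, 3, 2, 6; 4, 3, 1, 2; 4, 2, 3, 4; 5, 4, 3, 3] else !![3, 0, 5, 1; 0, 3, 6, 5; 1, 4, 3, 0; 3, 1, 0, 3])) else (if i.val < 215 then (if i.val < 214 then !![3, 0, 2, 4; 0, 3, 3, 2; 5, 4, 3, 0; 3, 5, 0, 3] else !![5, 1, 1, 3; 6, 5, 4, 1; 6, 6, 5, 1; 1, 6, 6, 5]) else (if i.val < 216 then !![5, 4, 5, 2; 3, 5, 5, 5; 5, 0, 5, 5; 0, 5, 2, 5] else !![5, 1, 5, 0; 6, 5, 0, 5; 6, 2, 5, 1; 5, 6, 6, 5]))) else (if i.val < 221 then (if i.val < 219 then (if i.val < 218 then !![4, 5, 0, 0; 5, 3, 0, 0; 0, 0, 5, 4; 0, 0, 4, 2] else !![3, 3, 1, 2; 4, 3, 5, 1; 2, 3, 3, 4; 4, 2, 3, 3]) else (if i.val < 220 then !![0, 1, 4, 2; 1, 0, 2, 3; 3, 1, 2, 4; 1, 4, 4, 5] else !![2,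 2, 4, 5; 2, 5, 5, 3; 4, 1, 5, 3; 1, 3, 3, 2])) else (if i.val < 223 then (if i.val < 222 then !![5, 6, 1, 0; 6, 2, 0, 6; 0, 2, 4, 1; 2, 0, 1, 3] else !![1, 5, 0, 6; 5, 6, 6, 0; 5, 0, 1, 3; 0, 2, 3, 6]) else (if i.val < 224 then !![4, 6, 6, 1; 6, 3, 1, 1; 2, 5, 6, 4; 5, 5, 4, 1] else !![1, 0, 5, 4; 0, 6, 4, 2; 1, 4, 3, 2; 4, 6, 2, 4])))) else (if i.val < 232 then (if i.val < 228 then (if i.val < 226 then !![3, 4, 5, 1; 3, 3, 6, 5; 3, 5, 3, 3; 2, 3, 4, 3] else (if i.val < 227 then !![1, 2, 0, 5; 5, 1, 2, 0; 2, 1, 6, 5; 6, 2, 2, 6] else !![3, 3, 5, 1; 4, 3, 6, 5; 3, 5, 3, 4; 2, 3, 3, 3])) else (if i.val < 230 then (if i.val < 229 then !![3, 4, 6, 5; 3, 3, 2, 6; 5, 4, 3, 3; 3, 5, 4, 3] else !![0, 0, 4, 6; 0, 0, 1, 4; 1, 2, 0, 0; 5, 1, 0, 0]) else (if i.val < 231 then !![3, 4, 2, 6; 3, 3, 1, 2; 4, 2, 3, 3; 5, 4, 4, 3] else !![2, 1, 1, 0; 1, 5, 0, 6; 0, 2, 3, 6; 2, 0, 6, 4]))) else (if i.val < 236 then (if i.val < 234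 then (if i.val < 233 then !![3, 4, 1, 2; 3, 3, 5, 1; 2, 3, 3, 3; 4, 2, 4, 3] else !![5, 2, 2, 4; 2, 2, 4, 5; 1, 3, 3, 2; 3, 6, 2, 4]) else (if i.val < 235 then !![0, 0, 6, 3; 0, 0, 4, 6; 5, 1, 0, 0; 6, 5, 0, 0] else !![6, 2, 0, 1; 2, 1, 1, 0; 2, 0, 6, 4; 0, 5, 4, 1])) else (if i.val < 238 then (if i.val < 237 then !![2, 4, 0, 0; 4, 5, 0, 0; 0, 0, 4, 2; 0, 0, 2, 3] else !![0, 0, 1, 4; 0, 0, 3, 1; 2, 6, 0, 0; 1, 2, 0, 0]) else (if i.val < 239 then !![1, 2, 3, 6; 5, 1, 1, 3; 1, 6, 6, 5; 1, 1, 2, 6] else !![0, 0, 3, 1; 0, 0, 6, 3; 6, 5, 0, 0; 2, 6, 0, 0]))))))))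
  e := 0
  gen := ![1, 2, 3, 5, 8, 16]
  rmul i := (if i.val < 120 then (if i.val < 60 then (if i.val < 30 then (if i.val < 15 then (if i.val < 7 then (if i.val < 3 then (if i.val < 1 then ![1, 2, 3, 5, 8, 16] else (if i.val < 2 then ![4, 5, 6, 12, 15, 30] else ![7, 8, 9, 18, 4, 43])) else (if i.val < 5 then (if i.val < 4 then ![6, 10, 11, 17, 25, 40] else ![11, 12, 13, 27, 29, 61]) else (if i.val < 6 then ![14, 15, 16, 32, 11, 69] else ![13, 17, 0, 31, 39, 66]))) else (if i.val < 11 then (if i.val < 9 then (if i.val < 8 then ![12, 18, 19, 29, 42, 63] else ![20, 4, 21, 45, 12, 97]) else (if i.val < 10 then ![19, 22, 23, 44, 50, 94] else ![24, 25, 26, 54, 13, 86])) else (if i.val < 13 then (if i.val < 12 then ![0, 27, 28, 2, 60, 9] else ![23, 29, 30, 52, 0, 110]) else (if i.val < 14 then ![28, 31, 1, 62, 65, 126] else ![27, 32, 33, 60, 68, 123])))) else (if i.val < 22 then (if i.val < 18 then (if i.val < 16 then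 ![34, 11, 35, 71, 27, 98] else (if i.val < 17 then ![33, 36, 37, 70, 76, 140] else ![38, 39, 40, 80, 28, 132])) else (if i.val < 20 then (if i.val < 19 then ![41, 42, 43, 86, 23, 166] else ![30, 44, 2, 64, 93, 129]) else (if i.val < 21 then ![29, 45, 46, 0, 96, 3] else ![46, 47, 48, 98, 100, 184]))) else (if i.val < 26 then (if i.val < 24 then (if i.val < 23 then ![49, 50, 51, 104, 30, 178] else ![2, 52, 53, 8, 109, 21]) else (if i.val < 25 then ![31, 54, 55, 65, 113, 130] else ![56, 13, 57, 115, 31, 206])) else (if i.val < 28 then (if i.val < 27 then ![55, 58, 59, 114, 119, 204] else ![37, 60, 61, 78, 1, 152]) else (if i.val < 29 then ![3, 62, 4, 10, 125, 26] else ![48, 0, 63, 102, 2, 143]))))) else (if i.val < 45 then (if i.val < 37 then (if i.val < 33 then (if i.val < 31 then ![53, 64, 7, 111, 128, 200] else (if i.val < 32 then ![59, 65, 66, 121, 3, 171] else ![67, 68, 69, 132, 37, 170])) else (if i.val < 35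 then (if i.val < 34 then ![61, 70, 5, 124, 139, 212] else ![60, 71, 72, 1, 142, 6]) else (if i.val < 36 then ![72, 73, 74, 143, 92, 95] else ![75, 76, 77, 147, 61, 202]))) else (if i.val < 41 then (if i.val < 39 then (if i.val < 38 then ![5, 78, 79, 15, 151, 35] else ![62, 80, 81, 125, 155, 193]) else (if i.val < 40 then ![82, 28, 83, 157, 62, 207] else ![81, 84, 85, 156, 160, 104])) else (if i.val < 43 then (if i.val < 42 then ![52, 86, 87, 109, 165, 197] else ![88, 23, 89, 163, 52, 62]) else (if i.val < 44 then ![87, 90, 91, 117, 170, 149] else ![92, 93, 94, 123, 53, 34])))) else (if i.val < 52 then (if i.val < 48 then (if i.val < 46 then ![95, 96, 97, 178, 48, 223] else (if i.val < 47 then ![63, 98, 8, 127, 183, 214] else ![99, 100, 101, 185, 63, 78])) else (if i.val < 50 then (if i.val < 49 then ![8, 102, 103, 4, 188, 13] else ![64, 104, 105, 128, 190, 151]) else (if i.val < 51 then ![106, 30, 68, 192, 64,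 237] else ![105, 107, 108, 191, 194, 235]))) else (if i.val < 56 then (if i.val < 54 then (if i.val < 53 then ![91, 109, 110, 171, 7, 112] else ![9, 111, 12, 22, 199, 51]) else (if i.val < 55 then ![112, 113, 86, 152, 59, 67] else ![66, 114, 10, 131, 203, 183])) else (if i.val < 58 then (if i.val < 57 then ![65, 115, 116, 3, 87, 11] else ![116, 95, 117, 207, 178, 127]) else (if i.val < 59 then ![118, 119, 120, 94, 66, 177] else ![10, 121, 122, 25, 174, 57])))))) else (if i.val < 90 then (if i.val < 75 then (if i.val < 67 then (if i.val < 63 then (if i.val < 61 then ![74, 1, 123, 145, 5, 189] else (if i.val < 62 then ![79, 124, 14, 153, 167, 225] else ![85, 125, 126, 162, 6, 180])) else (if i.val < 65 then (if i.val < 64 then ![103, 127, 20, 189, 138, 141] else ![108, 128, 129, 195, 9, 227]) else (if i.val < 66 then ![117, 3, 130, 208, 10, 194] else ![122, 131, 24, 211, 216, 147]))) else (if i.val < 71 then (if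 i.val < 69 then (if i.val < 68 then ![78, 132, 133, 151, 173, 106] else ![134, 37, 135, 55, 78, 10]) else (if i.val < 70 then ![133, 136, 137, 158, 112, 215] else ![138, 139, 140, 21, 79, 48])) else (if i.val < 73 then (if i.val < 72 then ![141, 142, 98, 202, 74, 90] else ![123, 143, 15, 205, 221, 238]) else (if i.val < 74 then ![115, 92, 144, 87, 123, 18] else ![15, 145, 146, 11, 164, 28])))) else (if i.val < 82 then (if i.val < 78 then (if i.val < 76 then ![124, 147, 148, 167, 222, 42] else (if i.val < 77 then ![89, 61, 109, 168, 124, 229] else ![148, 149, 150, 118, 186, 190])) else (if i.val < 80 then (if i.val < 79 then ![137, 151, 152, 180, 14, 154] else ![16, 153, 27, 36, 224, 77]) else (if i.val < 81 then ![154, 155, 132, 43, 85, 91] else ![126, 156, 17, 213, 88, 221]))) else (if i.val < 86 then (if i.val < 84 then (if i.val < 83 then ![125, 157, 107, 6, 133, 0] else ![107, 141, 158, 194, 202, 205]) else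 (if i.val < 85 then ![159, 160, 161, 140, 126, 100] else ![17, 162, 163, 39, 219, 83])) else (if i.val < 88 then (if i.val < 87 then ![164, 165, 166, 34, 91, 72] else ![110, 117, 18, 198, 208, 211]) else (if i.val < 89 then ![109, 163, 167, 7, 228, 19] else ![167, 168, 169, 16, 182, 37]))))) else (if i.val < 105 then (if i.val < 97 then (if i.val < 93 then (if i.val < 91 then ![147, 170, 114, 222, 110, 84] else (if i.val < 92 then ![18, 171, 172, 42, 218, 89] else ![111, 123, 173, 199, 205, 160])) else (if i.val < 95 then (if i.val < 94 then ![174, 53, 175, 24, 111, 55] else ![173, 176, 177, 137, 210, 185]) else (if i.val < 96 then ![102, 178, 179, 188, 130, 162] else ![180, 48, 80, 230, 102, 111]))) else (if i.val < 101 then (if i.val < 99 then (if i.val < 98 then ![179, 161, 181, 135, 72, 203] else ![182, 183, 184, 197, 103, 88]) else (if i.val < 100 then ![127, 185, 186, 138, 82, 218] else ![70, 63, 165, 139,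 127, 119])) else (if i.val < 103 then (if i.val < 102 then ![186, 187, 157, 212, 234, 75] else ![181, 188, 143, 227, 20, 136]) else (if i.val < 104 then ![21, 189, 29, 47, 120, 101] else ![136, 190, 178, 112, 108, 164])))) else (if i.val < 112 then (if i.val < 108 then (if i.val < 106 then ![129, 191, 22, 215, 225, 125] else (if i.val < 107 then ![128, 192, 134, 9, 179, 23] else ![193, 194, 39, 184, 129, 233])) else (if i.val < 110 then (if i.val < 109 then ![22, 195, 196, 50, 231, 68] else ![169, 7, 197, 81, 18, 17]) else (if i.val < 111 then ![172, 198, 41, 56, 154, 116] else ![177, 199, 200, 35, 19, 74]))) else (if i.val < 116 then (if i.val < 114 then (if i.val < 113 then ![121, 152, 164, 174, 223, 187] else ![93, 59, 201, 53, 121, 12]) else (if i.val < 115 then ![202, 203, 204, 193, 122, 82] else ![205, 87, 206, 177, 117, 230])) else (if i.val < 118 then (if i.val < 117 then ![130, 207, 25, 181, 77, 220]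 else ![25, 208, 149, 13, 172, 1]) else (if i.val < 119 then ![131, 94, 190, 216, 176, 219] else ![209, 66, 155, 239, 131, 192]))))))) else (if i.val < 180 then (if i.val < 150 then (if i.val < 135 then (if i.val < 127 then (if i.val < 123 then (if i.val < 121 then ![190, 46, 210, 108, 98, 196] else (if i.val < 122 then ![166, 174, 171, 69, 24, 137] else ![26, 211, 31, 58, 134, 120])) else (if i.val < 125 then (if i.val < 124 then ![146, 205, 34, 97, 177, 181] else ![150, 167, 212, 204, 16, 232]) else (if i.val < 126 then ![158, 6, 193, 99, 17, 186] else ![163, 213, 38, 228, 175, 195]))) else (if i.val < 131 then (if i.val < 129 then (if i.val < 128 then ![157, 138, 214, 133, 21, 32] else ![135, 9, 151, 217, 22, 234]) else (if i.val < 130 then ![196, 215, 49, 159, 206, 222] else ![149, 181, 56, 186, 227, 47])) else (if i.val < 133 then (if i.val < 132 then ![210, 216, 183, 200, 26, 92] else ![96, 173, 170, 48,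 137, 103]) else (if i.val < 134 then ![152, 158, 32, 223, 99, 228] else ![151, 55, 50, 14, 114, 33])))) else (if i.val < 142 then (if i.val < 138 then (if i.val < 136 then ![50, 217, 203, 30, 220, 7] else (if i.val < 137 then ![195, 112, 156, 231, 152, 131] else ![32, 180, 185, 68, 230, 135])) else (if i.val < 140 then (if i.val < 139 then ![153, 21, 218, 224, 47, 216] else ![219, 79, 119, 38, 153, 81]) else (if i.val < 141 then ![218, 105, 100, 41, 191, 87] else ![145, 202, 182, 164, 193, 54]))) else (if i.val < 146 then (if i.val < 144 then (if i.val < 143 then ![86, 74, 121, 165, 145, 153] else ![220, 221, 95, 106, 146, 134]) else (if i.val < 145 then ![206, 209, 208, 51, 239, 108] else ![184, 164, 189, 232, 34, 198])) else (if i.val < 148 then (if i.val < 147 then ![35, 97, 60, 73, 161, 144] else ![198, 222, 202, 154, 150, 96]) else (if i.val < 149 then ![212, 118, 36, 116, 94, 25] else ![57, 186, 65, 95,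 212, 179]))))) else (if i.val < 165 then (if i.val < 157 then (if i.val < 153 then (if i.val < 151 then ![36, 204, 176, 76, 235, 109] else (if i.val < 152 then ![203, 14, 106, 122, 32, 31] else ![185, 223, 67, 82, 166, 107])) else (if i.val < 155 then (if i.val < 154 then ![100, 224, 225, 63, 33, 20] else ![162, 43, 96, 219, 90, 209]) else (if i.val < 156 then ![139, 85, 226, 79, 162, 27] else ![227, 88, 104, 57, 163, 117]))) else (if i.val < 161 then (if i.val < 159 then (if i.val < 158 then ![47, 133, 207, 100, 158, 165] else ![39, 99, 215, 28, 185, 4]) else (if i.val < 160 then ![213, 140, 222, 175, 105, 113] else ![201, 126, 174, 237, 213, 168])) else (if i.val < 163 then (if i.val < 162 then ![222, 72, 191, 150, 143, 176] else ![170, 219, 180, 110, 38, 41]) else (if i.val < 164 then ![40, 228, 62, 84, 169, 161] else ![171, 34, 54, 218, 71, 70])))) else (if i.val < 172 then (if i.val < 168 then (if i.val <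 166 then ![140, 91, 153, 105, 171, 22] else (if i.val < 167 then ![54, 69, 142, 113, 136, 201] else ![197, 16, 42, 236, 36, 239])) else (if i.val < 170 then (if i.val < 169 then ![192, 182, 229, 179, 197, 45] else ![42, 81, 76, 23, 156, 53]) else (if i.val < 171 then ![80, 110, 188, 155, 198, 226] else ![142, 218, 112, 74, 41, 146]))) else (if i.val < 176 then (if i.val < 174 then (if i.val < 173 then ![43, 56, 52, 90, 115, 114] else ![200, 137, 44, 148, 180, 36]) else (if i.val < 175 then ![199, 24, 187, 19, 54, 2] else ![187, 40, 113, 234, 84, 236])) else (if i.val < 178 then (if i.val < 177 then ![77, 210, 124, 149, 200, 65] else ![44, 35, 230, 93, 73, 175]) else (if i.val < 179 then ![156, 130, 223, 88, 181, 167] else ![143, 135, 45, 221, 217, 159])))))) else (if i.val < 210 then (if i.val < 195 then (if i.val < 187 then (if i.val < 183 then (if i.val < 181 then ![188, 230, 154, 20, 67, 46] else (if i.val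 < 182 then ![45, 227, 220, 96, 57, 80] else ![189, 197, 71, 120, 236, 210])) else (if i.val < 185 then (if i.val < 184 then ![231, 103, 118, 49, 189, 105] else ![71, 232, 233, 142, 83, 121]) else (if i.val < 186 then ![69, 82, 78, 136, 157, 156] else ![214, 212, 47, 201, 116, 199]))) else (if i.val < 191 then (if i.val < 189 then (if i.val < 188 then ![160, 234, 93, 126, 214, 38] else ![132, 20, 162, 173, 45, 44]) else (if i.val < 190 then ![233, 120, 141, 89, 46, 169] else ![183, 108, 58, 103, 195, 29])) else (if i.val < 193 then (if i.val < 192 then ![84, 225, 235, 160, 196, 174] else ![236, 179, 237, 233, 135, 145]) else (if i.val < 194 then ![215, 184, 82, 206, 232, 73] else ![144, 129, 205, 209, 215, 139])))) else (if i.val < 202 then (if i.val < 198 then (if i.val < 196 then ![223, 231, 227, 166, 49, 142] else (if i.val < 197 then ![51, 159, 64, 107, 140, 39] else ![76, 236, 88, 61, 233, 14])) else (if i.val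 < 200 then (if i.val < 199 then ![204, 154, 211, 235, 43, 213] else ![113, 19, 160, 59, 44, 122]) else (if i.val < 201 then ![230, 148, 92, 67, 118, 133] else ![175, 237, 199, 40, 101, 85]))) else (if i.val < 206 then (if i.val < 204 then (if i.val < 203 then ![211, 193, 90, 134, 184, 50] else ![68, 122, 128, 37, 211, 79]) else (if i.val < 205 then ![90, 235, 232, 170, 75, 188] else ![208, 177, 238, 172, 35, 52])) else (if i.val < 208 then (if i.val < 207 then ![238, 51, 73, 226, 107, 224] else ![101, 77, 127, 187, 149, 93]) else (if i.val < 209 then ![73, 172, 194, 92, 56, 173] else ![216, 239, 139, 26, 238, 59]))))) else (if i.val < 225 then (if i.val < 217 then (if i.val < 213 then (if i.val < 211 then ![58, 200, 231, 119, 148, 155] else (if i.val < 212 then ![232, 134, 147, 83, 55, 158] else ![176, 116, 75, 210, 207, 231])) else (if i.val < 215 then (if i.val < 214 then ![191, 175, 221, 225, 40, 138] else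 ![207, 201, 99, 77, 237, 150]) else (if i.val < 216 then ![83, 206, 125, 141, 51, 182] else ![226, 26, 219, 229, 58, 217]))) else (if i.val < 221 then (if i.val < 219 then (if i.val < 218 then ![168, 220, 234, 182, 106, 71] else ![225, 41, 70, 196, 86, 64]) else (if i.val < 220 then ![224, 38, 209, 33, 80, 5] else ![97, 106, 102, 161, 192, 191])) else (if i.val < 223 then (if i.val < 222 then ![235, 146, 159, 75, 97, 148] else ![221, 150, 84, 146, 204, 60]) else (if i.val < 224 then ![104, 166, 228, 190, 69, 58] else ![155, 33, 216, 85, 70, 163])))) else (if i.val < 232 then (if i.val < 228 then (if i.val < 226 then ![165, 196, 138, 91, 159, 172] else (if i.val < 227 then ![119, 229, 224, 66, 144, 24] else ![228, 57, 136, 169, 95, 76])) else (if i.val < 230 then (if i.val < 229 then ![178, 169, 195, 130, 81, 56] else ![237, 144, 217, 101, 209, 157]) else (if i.val < 231 then ![94, 67, 111, 176, 132, 124] else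 ![120, 49, 131, 46, 104, 8]))) else (if i.val < 236 then (if i.val < 234 then (if i.val < 233 then ![114, 83, 198, 203, 141, 128] else ![98, 89, 145, 183, 168, 118]) else (if i.val < 235 then ![229, 214, 236, 144, 201, 208] else ![161, 75, 213, 72, 147, 15])) else (if i.val < 238 then (if i.val < 237 then ![217, 233, 239, 220, 89, 102] else ![239, 101, 168, 238, 187, 115]) else (if i.val < 239 then ![194, 226, 115, 129, 229, 49] else ![234, 238, 192, 214, 226, 99]))))))))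
  pows i := (if i.val < 120 then (if i.val < 60 then (if i.val < 30 then (if i.val < 15 then (if i.val < 7 then (if i.val < 3 then (if i.val < 1 then [0] else (if i.val < 2 then [0, 1, 4, 11] else [0, 2, 8, 4, 12, 29])) else (if i.val < 5 then (if i.val < 4 then [0, 3, 11, 28, 4, 13, 1, 6] else [0, 4]) else (if i.val < 6 then [0, 5, 32, 132, 48, 4, 27, 78, 180, 20] else [0, 6, 1, 13, 4, 28, 11, 3]))) else (if i.val < 11 then (if i.val < 9 then (if i.val < 8 then [0, 7, 41, 164, 60, 4, 23, 91, 142, 15] else [0, 8, 12]) else (if i.val < 10 then [0, 9, 51, 39, 4, 30, 129, 125] else [0, 10, 58, 46, 4, 31, 131, 103])) else (if i.val < 13 then (if i.val < 12 then [0, 11, 4, 1] else [0, 12, 8]) else (if i.val < 14 then [0, 13, 11, 6, 4, 3, 1, 28] else [0, 14, 74])))) else (if i.val < 22 then (if i.val < 18 then (if i.val < 16 then [0, 15, 142, 91, 23, 4, 60, 164, 41, 7] else (if i.val < 17 then [0, 16, 140, 87, 211,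 158, 4, 61, 225, 172, 114, 82] else [0, 17, 156, 112, 218, 21, 4, 62, 228, 166, 165, 63])) else (if i.val < 20 then (if i.val < 19 then [0, 18, 163, 130, 96, 4, 52, 81, 57, 188] else [0, 19, 173, 69, 227, 25, 4, 53, 230, 152, 178, 65]) else (if i.val < 21 then [0, 20, 180, 78, 27, 4, 48, 132, 32, 5] else [0, 21, 165, 112, 228, 17, 4, 63, 218, 166, 156, 62]))) else (if i.val < 26 then (if i.val < 24 then (if i.val < 23 then [0, 22, 37, 223, 74, 120, 4, 64, 14, 136, 34, 183] else [0, 23, 41, 142, 60]) else (if i.val < 25 then [0, 24, 202, 80, 200, 146, 4, 59, 232, 162, 94, 72] else [0, 25, 178, 69, 230, 19, 4, 65, 227, 152, 173, 53])) else (if i.val < 28 then (if i.val < 27 then [0, 26, 171, 67, 215] else [0, 27, 32, 180, 48]) else (if i.val < 29 then [0, 28, 1, 3, 4, 6, 11, 13] else [0, 29, 12, 4, 8, 2]))))) else (if i.val < 45 then (if i.val < 37 then (if i.val < 33 then (if i.val < 31 then [0, 30, 51, 125, 4,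 9, 129, 39] else (if i.val < 32 then [0, 31, 58, 103, 4, 10, 131, 46] else [0, 32, 48, 27, 180])) else (if i.val < 35 then (if i.val < 34 then [0, 33, 176, 117, 4, 79, 148, 56] else [0, 34, 14, 4, 74, 37]) else (if i.val < 36 then [0, 35, 159, 85, 4, 123, 191, 38] else [0, 36, 193, 92, 126, 231, 4, 124, 83, 177, 40, 190]))) else (if i.val < 41 then (if i.val < 39 then (if i.val < 38 then [0, 37, 74, 4, 14, 34] else [0, 38, 191, 123, 4, 85, 159, 35]) else (if i.val < 40 then [0, 39, 129, 9, 4, 125, 51, 30] else [0, 40, 83, 4, 126, 193])) else (if i.val < 43 then (if i.val < 42 then [0, 41, 60, 23, 142] else [0, 42, 4, 109]) else (if i.val < 44 then [0, 43, 84, 168, 210, 133, 4, 110, 213, 236, 118, 185] else [0, 44, 234, 138, 4, 111, 237, 100])))) else (if i.val < 52 then (if i.val < 48 then (if i.val < 46 then [0, 45, 4, 102] else (if i.val < 47 then [0, 46, 131, 10, 4, 103, 58, 31] else [0, 47, 45, 189, 4, 127,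 102, 98])) else (if i.val < 50 then (if i.val < 49 then [0, 48, 180, 32, 27] else [0, 49, 149, 70, 122, 221, 4, 108, 116, 153, 55, 161]) else (if i.val < 51 then [0, 50, 42, 199, 4, 128, 109, 93] else [0, 51, 4, 129]))) else (if i.val < 56 then (if i.val < 54 then (if i.val < 53 then [0, 52, 163, 57, 96] else [0, 53, 173, 152, 227, 65, 4, 19, 230, 69, 178, 25]) else (if i.val < 55 then [0, 54, 105, 192, 212, 154, 4, 121, 196, 217, 77, 170] else [0, 55, 116, 4, 122, 149])) else (if i.val < 58 then (if i.val < 57 then [0, 56, 148, 79, 4, 117, 176, 33] else [0, 57, 52, 96, 163]) else (if i.val < 59 then [0, 58, 4, 131] else [0, 59, 202, 162, 200, 72, 4, 24, 232, 80, 94, 146])))))) else (if i.val < 90 then (if i.val < 75 then (if i.val < 67 then (if i.val < 63 then (if i.val < 61 then [0, 60, 142, 41, 23] else (if i.val < 62 then [0, 61, 140, 172, 211, 82, 4, 16, 225, 87, 114, 158] else [0, 62, 156, 166, 218, 63,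 4, 17, 228, 112, 165, 21])) else (if i.val < 65 then (if i.val < 64 then [0, 63, 165, 166, 228, 62, 4, 21, 218, 112, 156, 17] else [0, 64, 37, 136, 74, 183, 4, 22, 14, 223, 34, 120]) else (if i.val < 66 then [0, 65, 178, 152, 230, 53, 4, 25, 227, 69, 173, 19] else [0, 66, 171, 137, 215, 4, 26, 86, 67, 107]))) else (if i.val < 71 then (if i.val < 69 then (if i.val < 68 then [0, 67, 26, 215, 171] else [0, 68, 216, 187, 169, 4, 151, 119, 201, 88]) else (if i.val < 70 then [0, 69, 4, 152] else [0, 70, 4, 153])) else (if i.val < 73 then (if i.val < 72 then [0, 71, 206, 101, 181, 4, 145, 194, 214, 95] else [0, 72, 94, 162, 232, 59, 4, 146, 200, 80, 202, 24]) else (if i.val < 74 then [0, 73, 186, 182, 4, 205, 207, 233] else [0, 74, 14])))) else (if i.val < 82 then (if i.val < 78 then (if i.val < 76 then [0, 75, 2, 147, 8, 222, 4, 150, 12, 204, 29, 235] else (if i.val < 77 then [0, 76, 209, 174, 4, 167, 226, 113] else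 [0, 77, 196, 4, 212, 105])) else (if i.val < 80 then (if i.val < 79 then [0, 78, 48, 5, 180, 4, 32, 20, 27, 132] else [0, 79, 176, 56, 4, 33, 148, 117]) else (if i.val < 81 then [0, 80, 4, 162] else [0, 81, 96, 18, 57, 4, 163, 188, 52, 130]))) else (if i.val < 86 then (if i.val < 84 then (if i.val < 83 then [0, 82, 114, 172, 225, 61, 4, 158, 211, 87, 140, 16] else [0, 83, 126]) else (if i.val < 85 then [0, 84, 210, 4, 213, 118] else [0, 85, 191, 35, 4, 38, 159, 123])) else (if i.val < 88 then (if i.val < 87 then [0, 86, 215, 66, 67, 4, 171, 107, 26, 137] else [0, 87, 4, 172]) else (if i.val < 89 then [0, 88, 201, 119, 151, 4, 169, 187, 216, 68] else [0, 89, 203, 155, 4, 197, 134, 219]))))) else (if i.val < 105 then (if i.val < 97 then (if i.val < 93 then (if i.val < 91 then [0, 90, 229, 195, 4, 198, 239, 104] else (if i.val < 92 then [0, 91, 60, 7, 142, 4, 41, 15, 23, 164] else [0, 92, 4, 177])) else (if i.val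 < 95 then (if i.val < 94 then [0, 93, 109, 128, 4, 199, 42, 50] else [0, 94, 232, 4, 200, 202]) else (if i.val < 96 then [0, 95, 214, 194, 145, 4, 181, 101, 206, 71] else [0, 96, 57, 163, 52]))) else (if i.val < 101 then (if i.val < 99 then (if i.val < 98 then [0, 97, 238, 157, 4, 143, 144, 99] else [0, 98, 102, 127, 4, 189, 45, 47]) else (if i.val < 100 then [0, 99, 144, 143, 4, 157, 238, 97] else [0, 100, 237, 111, 4, 138, 234, 44])) else (if i.val < 103 then (if i.val < 102 then [0, 101, 145, 95, 206, 4, 214, 71, 181, 194] else [0, 102, 4, 45]) else (if i.val < 104 then [0, 103, 131, 31, 4, 46, 58, 10] else [0, 104, 239, 198, 4, 195, 229, 90])))) else (if i.val < 112 then (if i.val < 108 then (if i.val < 106 then [0, 105, 212, 4, 196, 77] else (if i.val < 107 then [0, 106, 160, 139, 4, 135, 175, 224] else [0, 107, 67, 86, 26, 4, 215, 137, 171, 66])) else (if i.val < 110 then (if i.val < 109 then [0, 108, 149,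 153, 122, 161, 4, 49, 116, 70, 55, 221] else [0, 109, 4, 42]) else (if i.val < 111 then [0, 110, 84, 236, 210, 185, 4, 43, 213, 168, 118, 133] else [0, 111, 234, 100, 4, 44, 237, 138]))) else (if i.val < 116 then (if i.val < 114 then (if i.val < 113 then [0, 112, 4, 166] else [0, 113, 226, 167, 4, 174, 209, 76]) else (if i.val < 115 then [0, 114, 225, 4, 211, 140] else [0, 115, 184, 179, 4, 208, 141, 220])) else (if i.val < 118 then (if i.val < 117 then [0, 116, 122] else [0, 117, 148, 33, 4, 56, 176, 79]) else (if i.val < 119 then [0, 118, 213, 4, 210, 84] else [0, 119, 169, 68, 201, 4, 216, 88, 151, 187]))))))) else (if i.val < 180 then (if i.val < 150 then (if i.val < 135 then (if i.val < 127 then (if i.val < 123 then (if i.val < 121 then [0, 120, 34, 223, 14, 22, 4, 183, 74, 136, 37, 64] else (if i.val < 122 then [0, 121, 105, 217, 212, 170, 4, 54, 196, 192, 77, 154] else [0, 122, 116])) else (if i.val < 125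 then (if i.val < 124 then [0, 123, 159, 38, 4, 35, 191, 85] else [0, 124, 193, 177, 126, 190, 4, 36, 83, 92, 40, 231]) else (if i.val < 126 then [0, 125, 129, 30, 4, 39, 51, 9] else [0, 126, 83]))) else (if i.val < 131 then (if i.val < 129 then (if i.val < 128 then [0, 127, 45, 98, 4, 47, 102, 189] else [0, 128, 42, 93, 4, 50, 109, 199]) else (if i.val < 130 then [0, 129, 4, 51] else [0, 130, 52, 188, 163, 4, 57, 18, 96, 81])) else (if i.val < 133 then (if i.val < 132 then [0, 131, 4, 58] else [0, 132, 27, 20, 32, 4, 180, 5, 48, 78]) else (if i.val < 134 then [0, 133, 118, 168, 213, 43, 4, 185, 210, 236, 84, 110] else [0, 134, 4, 203])))) else (if i.val < 142 then (if i.val < 138 then (if i.val < 136 then [0, 135, 160, 224, 4, 106, 175, 139] else (if i.val < 137 then [0, 136, 4, 223] else [0, 137, 26, 107, 171, 4, 67, 66, 215, 86])) else (if i.val < 140 then (if i.val < 139 then [0, 138, 237, 44, 4, 100, 234,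 111] else [0, 139, 175, 106, 4, 224, 160, 135]) else (if i.val < 141 then [0, 140, 211, 4, 225, 114] else [0, 141, 4, 184]))) else (if i.val < 146 then (if i.val < 144 then (if i.val < 143 then [0, 142, 23, 60, 41] else [0, 143, 238, 99, 4, 97, 144, 157]) else (if i.val < 145 then [0, 144, 4, 238] else [0, 145, 206, 214, 181])) else (if i.val < 148 then (if i.val < 147 then [0, 146, 94, 80, 232, 24, 4, 72, 200, 162, 202, 59] else [0, 147, 4, 204]) else (if i.val < 149 then [0, 148, 4, 176] else [0, 149, 122, 4, 116, 55]))))) else (if i.val < 165 then (if i.val < 157 then (if i.val < 153 then (if i.val < 151 then [0, 150, 2, 204, 8, 235, 4, 75, 12, 147, 29, 222] else (if i.val < 152 then [0, 151, 216, 201, 169] else [0, 152, 4, 69])) else (if i.val < 155 then (if i.val < 154 then [0, 153, 4, 70] else [0, 154, 77, 192, 196, 54, 4, 170, 212, 217, 105, 121]) else (if i.val < 156 then [0, 155, 134, 89, 4, 219, 203,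 197] else [0, 156, 218, 4, 228, 165]))) else (if i.val < 161 then (if i.val < 159 then (if i.val < 158 then [0, 157, 144, 97, 4, 99, 238, 143] else [0, 158, 114, 87, 225, 16, 4, 82, 211, 172, 140, 61]) else (if i.val < 160 then [0, 159, 4, 191] else [0, 160, 4, 175])) else (if i.val < 163 then (if i.val < 162 then [0, 161, 55, 153, 116, 108, 4, 221, 122, 70, 149, 49] else [0, 162, 4, 80]) else (if i.val < 164 then [0, 163, 96, 52, 57] else [0, 164, 23, 15, 41, 4, 142, 7, 60, 91])))) else (if i.val < 172 then (if i.val < 168 then (if i.val < 166 then [0, 165, 228, 4, 218, 156] else (if i.val < 167 then [0, 166, 4, 112] else [0, 167, 209, 113, 4, 76, 226, 174])) else (if i.val < 170 then (if i.val < 169 then [0, 168, 4, 236] else [0, 169, 201, 216, 151]) else (if i.val < 171 then [0, 170, 77, 217, 196, 121, 4, 154, 212, 192, 105, 54] else [0, 171, 215, 26, 67]))) else (if i.val < 176 then (if i.val < 174 then (if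 i.val < 173 then [0, 172, 4, 87] else [0, 173, 227, 4, 230, 178]) else (if i.val < 175 then [0, 174, 226, 76, 4, 113, 209, 167] else [0, 175, 4, 160])) else (if i.val < 178 then (if i.val < 177 then [0, 176, 4, 148] else [0, 177, 4, 92]) else (if i.val < 179 then [0, 178, 230, 4, 227, 173] else [0, 179, 141, 115, 4, 220, 184, 208])))))) else (if i.val < 210 then (if i.val < 195 then (if i.val < 187 then (if i.val < 183 then (if i.val < 181 then [0, 180, 27, 48, 32] else (if i.val < 182 then [0, 181, 214, 206, 145] else [0, 182, 207, 73, 4, 233, 186, 205])) else (if i.val < 185 then (if i.val < 184 then [0, 183, 34, 136, 14, 64, 4, 120, 74, 223, 37, 22] else [0, 184, 4, 141]) else (if i.val < 186 then [0, 185, 118, 236, 213, 110, 4, 133, 210, 168, 84, 43] else [0, 186, 4, 207]))) else (if i.val < 191 then (if i.val < 189 then (if i.val < 188 then [0, 187, 151, 88, 216, 4, 201, 68, 169, 119] else [0, 188, 57, 81,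 52, 4, 96, 130, 163, 18]) else (if i.val < 190 then [0, 189, 102, 47, 4, 98, 45, 127] else [0, 190, 40, 177, 83, 124, 4, 231, 126, 92, 193, 36])) else (if i.val < 193 then (if i.val < 192 then [0, 191, 4, 159] else [0, 192, 4, 217]) else (if i.val < 194 then [0, 193, 126, 4, 83, 40] else [0, 194, 181, 71, 214, 4, 206, 95, 145, 101])))) else (if i.val < 202 then (if i.val < 198 then (if i.val < 196 then [0, 195, 239, 90, 4, 104, 229, 198] else (if i.val < 197 then [0, 196, 212] else [0, 197, 203, 219, 4, 89, 134, 155])) else (if i.val < 200 then (if i.val < 199 then [0, 198, 229, 104, 4, 90, 239, 195] else [0, 199, 109, 50, 4, 93, 42, 128]) else (if i.val < 201 then [0, 200, 232] else [0, 201, 151, 169, 216]))) else (if i.val < 206 then (if i.val < 204 then (if i.val < 203 then [0, 202, 200, 4, 232, 94] else [0, 203, 4, 134]) else (if i.val < 205 then [0, 204, 4, 147] else [0, 205, 186, 233, 4, 73, 207, 182]))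 else (if i.val < 208 then (if i.val < 207 then [0, 206, 181, 145, 214] else [0, 207, 4, 186]) else (if i.val < 209 then [0, 208, 184, 220, 4, 115, 141, 179] else [0, 209, 4, 226]))))) else (if i.val < 225 then (if i.val < 217 then (if i.val < 213 then (if i.val < 211 then [0, 210, 213] else (if i.val < 212 then [0, 211, 225] else [0, 212, 196])) else (if i.val < 215 then (if i.val < 214 then [0, 213, 210] else [0, 214, 145, 181, 206]) else (if i.val < 216 then [0, 215, 67, 171, 26] else [0, 216, 169, 151, 201]))) else (if i.val < 221 then (if i.val < 219 then (if i.val < 218 then [0, 217, 4, 192] else [0, 218, 228]) else (if i.val < 220 then [0, 219, 134, 197, 4, 155, 203, 89] else [0, 220, 141, 208, 4, 179, 184, 115])) else (if i.val < 223 then (if i.val < 222 then [0, 221, 55, 70, 116, 49, 4, 161, 122, 153, 149, 108] else [0, 222, 29, 147, 12, 75, 4, 235, 8, 204, 2, 150]) else (if i.val < 224 then [0, 223, 4,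 136] else [0, 224, 175, 135, 4, 139, 160, 106])))) else (if i.val < 232 then (if i.val < 228 then (if i.val < 226 then [0, 225, 211] else (if i.val < 227 then [0, 226, 4, 209] else [0, 227, 230])) else (if i.val < 230 then (if i.val < 229 then [0, 228, 218] else [0, 229, 4, 239]) else (if i.val < 231 then [0, 230, 227] else [0, 231, 40, 92, 83, 36, 4, 190, 126, 177, 193, 124]))) else (if i.val < 236 then (if i.val < 234 then (if i.val < 233 then [0, 232, 200] else [0, 233, 207, 205, 4, 182, 186, 73]) else (if i.val < 235 then [0, 234, 4, 237] else [0, 235, 29, 204, 12, 150, 4, 222, 8, 147, 2, 75])) else (if i.val < 238 then (if i.val < 237 then [0, 236, 4, 168] else [0, 237, 4, 234]) else (if i.val < 239 then [0, 238, 4, 144] else [0, 239, 4, 229]))))))))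

theorem doubleSymFiveModel_valid : doubleSymFiveModel.Valid := by
  unfold ModelData.Valid
  decide +kernel

end Cfsg.Agent.H79
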