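import Cfsg.Agent.H79.Manning

/-!
Normal subgroups of point stabilisers in extremely primitive groups.
-/

set_option autoImplicit false

namespace Cfsg.Agent.H79

open MulAction Subgroup

variable {G : Type*} [Group G] [Finite G] {Ω : Type*} [MulAction G Ω] [Finite Ω]
  [FaithfulSMul G Ω] [IsPreprimitive G Ω]

/-- A nontrivial normal subgroup of a stabiliser has the same orbits off `α`. -/
theorem normal_orbit_eq (hH : ∀ α : Ω, stabilizer G α ≠ ⊥) (hep : StabPrimitive G Ω) {α : Ω}
    {M : Subgroup (stabilizer G α)} [M.Normal] (hM : M ≠ ⊥) {ω : Ω} (hω : ω ≠ α) :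
    orbit M ω = orbit (stabilizer G α) ω := by
  have hn : stabilizer G α ≤
      Subgroup.normalizer ((M.map (stabilizer G α).subtype : Subgroup G) : Set G) := by
    apply (Subgroup.normal_subgroupOf_iff_le_normalizer (Subgroup.map_subtype_le _)).1
    rw [Subgroup.subgroupOf, Subgroup.comap_map_eq_self_of_injective Subtype.val_injective]
    infer_instance
  rcases normal_fix_or_transitive hep (Subgroup.map_subtype_le M) hn ω with h | h
  · exfalso
    apply hM
    refine (Subgroup.eq_bot_iff_forall _).2 fun m hm => Subtype.ext ?_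
    exact manning hH hep hω m.2 (h m ⟨m, hm, rfl⟩)
  · rw [← h]
    apply Set.Subset.antisymm
    · rintro _ ⟨m, rfl⟩
      exact ⟨⟨_, Subgroup.mem_map_of_mem _ m.2⟩, rfl⟩
    · rintro _ ⟨⟨_, m, hm, rfl⟩, rfl⟩
      exact ⟨⟨m, hm⟩, rfl⟩

/-- An abelian normal subgroup of a stabiliser acts semiregularly off `α`. -/
theorem abelian_normal_free (hH : ∀ α : Ω, stabilizer G α ≠ ⊥) (hep : StabPrimitive G Ω) {α : Ω}
    {M : Subgroup (stabilizer G α)} [M.Normal] (hc : ∀ a ∈ M, ∀ b ∈ M, a * b = b * a)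
    {ω : Ω} (hω : ω ≠ α) {m : stabilizer G α} (hm : m ∈ M) (hfix : m • ω = ω) : m = 1 := by
  rcases eq_or_ne M ⊥ with rfl | hM
  · exact Subgroup.mem_bot.1 hm
  refine Subtype.ext (manning hH hep hω m.2 fun x hx => ?_)
  rw [← normal_orbit_eq hH hep hM hω] at hx
  obtain ⟨a, rfl⟩ := hx
  show m • (a : stabilizer G α) • ω = (a : stabilizer G α) • ω
  rw [← mul_smul, hc m hm a a.2, mul_smul, hfix]

/-- A nontrivial abelian normal subgroup of a stabiliser is its own centraliser. -/
theorem abelian_normal_centralizer (hH : ∀ α : Ω, stabilizer G α ≠ ⊥) (hep : StabPrimitive G Ω)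
    {α ω : Ω} (hω : ω ≠ α) {M : Subgroup (stabilizer G α)} [M.Normal] (hM : M ≠ ⊥)
    (hc : ∀ a ∈ M, ∀ b ∈ M, a * b = b * a) :
    Subgroup.centralizer (M : Set (stabilizer G α)) = M := by
  refine le_antisymm (fun c hcc => ?_) (fun a ha => Subgroup.mem_centralizer_iff.2 fun b hb =>
    hc b hb a ha)
  have horb : c • ω ∈ orbit M ω := by
    rw [normal_orbit_eq hH hep hM hω]; exact mem_orbit _ c
  obtain ⟨m, hm⟩ := horb
  have hcomm : ∀ b ∈ M, b * ((m : stabilizer G α)⁻¹ * c) = ((m : stabilizer G α)⁻¹ * c) * b := by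
    intro b hb
    rw [← mul_assoc, hc b hb _ (inv_mem m.2), mul_assoc, mul_assoc,
      Subgroup.mem_centralizer_iff.1 hcc b hb]
  have hfix : ((m : stabilizer G α)⁻¹ * c) • ω = ω := by
    rw [mul_smul, inv_smul_eq_iff]; exact hm.symm
  have : (m : stabilizer G α)⁻¹ * c = 1 := by
    refine Subtype.ext (manning hH hep hω ((m : stabilizer G α)⁻¹ * c).2 fun x hx => ?_)
    rw [← normal_orbit_eq hH hep hM hω] at hx
    obtain ⟨a, rfl⟩ := hx
    show ((m : stabilizer G α)⁻¹ * c) • (a : stabilizer G α) • ω = (a : stabilizer G α) • ω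
    rw [← mul_smul, ← hcomm _ a.2, mul_smul, hfix]
  rw [inv_mul_eq_one] at this
  exact this ▸ m.2

/-- The orbits off `α` of a stabiliser with abelian normal subgroup `M` have size `|M|`. -/
theorem card_orbit_eq_card (hH : ∀ α : Ω, stabilizer G α ≠ ⊥) (hep : StabPrimitive G Ω)
    {α ω : Ω} (hω : ω ≠ α) {M : Subgroup (stabilizer G α)} [M.Normal] (hM : M ≠ ⊥)
    (hc : ∀ a ∈ M, ∀ b ∈ M, a * b = b * a) :
    Nat.card (orbit (stabilizer G α) ω) = Nat.card M := by
  rw [← normal_orbit_eq hH hep hM hω, Nat.card_coe_set_eq, ← index_stabilizer]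
  have hs : stabilizer M ω = ⊥ := (Subgroup.eq_bot_iff_forall _).2 fun m hm =>
    Subtype.ext (abelian_normal_free hH hep hc hω m.2 hm)
  rw [hs, Subgroup.index_bot]

/-- `|M|` divides the number of points other than `α`. -/
theorem card_dvd_card_sub_one (hH : ∀ α : Ω, stabilizer G α ≠ ⊥) (hep : StabPrimitive G Ω)
    {α : Ω} {M : Subgroup (stabilizer G α)} [M.Normal]
    (hc : ∀ a ∈ M, ∀ b ∈ M, a * b = b * a) : Nat.card M ∣ Nat.card Ω - 1 := by
  classical
  haveI := Fintype.ofFinite Ω
  let q0 : orbitRel.Quotient M Ω := Quotient.mk'' α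
  haveI := Fintype.ofFinite (orbitRel.Quotient M Ω)
  have hcard : Nat.card Ω = ∑ q : orbitRel.Quotient M Ω, Nat.card (orbitRel.Quotient.orbit q) := by
    rw [← Nat.card_sigma]
    exact Nat.card_congr (MulAction.selfEquivSigmaOrbits' M Ω)
  have h0 : Nat.card (orbitRel.Quotient.orbit q0) = 1 := by
    have : orbitRel.Quotient.orbit q0 = {α} := by
      ext x
      rw [orbitRel.Quotient.orbit_mk]
      constructor
      · rintro ⟨m, rfl⟩
        exact mem_stabilizer_iff.1 (m : stabilizer G α).2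
      · rintro rfl; exact mem_orbit_self _
    rw [this, Nat.card_coe_set_eq, Set.ncard_singleton]
  rw [hcard, ← Finset.add_sum_erase _ _ (Finset.mem_univ q0), h0, Nat.add_sub_cancel_left]
  refine Finset.dvd_sum fun q hq => ?_
  induction q using Quotient.inductionOn' with
  | h x =>
    have hx : x ≠ α := fun h => (Finset.ne_of_mem_erase hq) (by rw [h])
    have hs : stabilizer M x = ⊥ := (Subgroup.eq_bot_iff_forall _).2 fun m hm =>
      Subtype.ext (abelian_normal_free hH hep hc hx m.2 hm)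
    rw [orbitRel.Quotient.orbit_mk, Nat.card_coe_set_eq, ← index_stabilizer, hs,
      Subgroup.index_bot]

/-- The stabiliser is abelian only if it has prime order. -/
theorem prime_of_abelian (hH : ∀ α : Ω, stabilizer G α ≠ ⊥) (hep : StabPrimitive G Ω) {α : Ω}
    [Nontrivial Ω] (hc : ∀ a b : stabilizer G α, a * b = b * a) :
    (Nat.card (stabilizer G α)).Prime := by
  haveI : Nontrivial (stabilizer G α) := (Subgroup.nontrivial_iff_ne_bot _).2 (hH α)
  obtain ⟨ω, hω⟩ := exists_ne α
  set n := Nat.card (stabilizer G α)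
  have hn : n ≠ 1 := ne_of_gt (Finite.one_lt_card_iff_nontrivial.2 inferInstance)
  obtain ⟨p, hp, hpn⟩ := Nat.exists_prime_and_dvd hn
  haveI := Fact.mk hp
  obtain ⟨x, hx⟩ := exists_prime_orderOf_dvd_card' p hpn
  haveI hzn : (zpowers x).Normal := ⟨fun a ha g => by rwa [hc g a, mul_inv_cancel_right]⟩
  have hne : zpowers x ≠ ⊥ := by
    rw [Ne, Subgroup.zpowers_eq_bot]
    rintro rfl
    rw [orderOf_one] at hx
    exact hp.ne_one hx.symm
  have h := abelian_normal_centralizer hH hep hω hne (fun a _ b _ => hc a b)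
  have htop : zpowers x = ⊤ := h ▸ eq_top_iff.2 fun c _ =>
    Subgroup.mem_centralizer_iff.2 fun b _ => hc b c
  have : n = p := by
    rw [← hx, ← Nat.card_zpowers, htop, Subgroup.card_top]
  exact this ▸ hp

end Cfsg.Agent.H79
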