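import Cfsg.Agent.H79.FiniteModel
import Cfsg.Agent.H79.MatrixEnd

/-!
A certified list of the elements of a fixed-point-free matrix group of order 40 over the field
with 3 elements.
-/

set_option autoImplicit false
set_option maxRecDepth 100000

namespace Cfsg.Agent.H79

/-- The certificate of the group of order 40. -/
def frob40Model : ModelData (Matrix (Fin 4) (Fin 4) (ZMod 3)) 40 2 where
  elt := ![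
    !![1, 0, 0, 0; 0, 1, 0, 0; 0, 0, 1, 0; 0, 0, 0, 1],
    !![0, 1, 2, 1; 1, 2, 1, 2; 0, 0, 0, 1; 0, 0, 1, 1],
    !![1, 1, 0, 2; 2, 0, 1, 1; 0, 2, 0, 1; 1, 0, 2, 0],
    !![1, 2, 2, 2; 2, 2, 0, 2; 0, 0, 1, 1; 0, 0, 1, 2],
    !![0, 1, 0, 0; 1, 0, 0, 2; 1, 0, 2, 0; 1, 2, 2, 1],
    !![1, 0, 2, 2; 0, 2, 2, 1; 2, 1, 0, 2; 0, 1, 2, 0],
    !![2, 1, 2, 0; 0, 1, 2, 2; 2, 0, 1, 2; 1, 2, 0, 1],
    !![2, 2, 0, 0; 2, 0, 2, 2; 0, 0, 1, 2; 0, 0, 2, 0],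
    !![1, 2, 0, 0; 2, 2, 0, 0; 1, 2, 2, 1; 2, 2, 1, 1],
    !![1, 2, 1, 2; 0, 1, 1, 0; 0, 1, 2, 0; 2, 2, 2, 2],
    !![2, 0, 1, 1; 0, 1, 1, 2; 1, 2, 0, 1; 0, 2, 1, 0],
    !![0, 1, 1, 2; 2, 1, 0, 1; 1, 1, 1, 0; 1, 2, 1, 1],
    !![0, 2, 1, 1; 2, 1, 1, 1; 0, 2, 2, 2; 2, 1, 1, 0],
    !![1, 1, 2, 0; 1, 2, 0, 0; 0, 2, 0, 2; 2, 2, 2, 0],
    !![1, 0, 1, 1; 1, 1, 2, 0; 1, 1, 1, 2; 0, 1, 1, 1],
    !![2, 0, 0, 0; 0, 2, 0, 0; 0, 0, 2, 0; 0, 0, 0, 2],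
    !![0, 2, 2, 0; 1, 0, 1, 0; 2, 2, 1, 1; 0, 1, 0, 2],
    !![2, 2, 1, 2; 2, 0, 0, 0; 2, 2, 2, 2; 2, 0, 1, 2],
    !![2, 1, 2, 1; 0, 2, 2, 0; 0, 2, 1, 0; 1, 1, 1, 1],
    !![2, 2, 0, 2; 1, 2, 1, 0; 1, 2, 1, 1; 2, 0, 2, 1],
    !![1, 0, 0, 2; 2, 2, 1, 2; 2, 1, 1, 0; 2, 0, 0, 2],
    !![0, 2, 2, 1; 1, 2, 0, 2; 2, 2, 2, 0; 2, 1, 2, 2],
    !![0, 1, 2, 2; 1, 2, 2, 2; 0, 1, 1, 1; 1, 2, 2, 0],
    !![1, 2, 0, 2; 1, 1, 0, 2; 1, 0, 0, 1; 2, 2, 2, 1],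
    !![2, 1, 0, 0; 1, 1, 0, 0; 2, 1, 1, 2; 1, 1, 2, 2],
    !![2, 2, 1, 0; 2, 1, 0, 0; 0, 1, 0, 1; 1, 1, 1, 0],
    !![0, 2, 1, 2; 2, 1, 2, 1; 0, 0, 0, 2; 0, 0, 2, 2],
    !![2, 0, 2, 0; 0, 2, 1, 2; 2, 0, 2, 1; 0, 2, 0, 2],
    !![2, 2, 0, 1; 1, 0, 2, 2; 0, 1, 0, 2; 2, 0, 1, 0],
    !![1, 1, 2, 1; 1, 0, 0, 0; 1, 1, 1, 1; 1, 0, 2, 1],
    !![2, 1, 0, 1; 2, 2, 0, 1; 2, 0, 0, 2; 1, 1, 1, 2],
    !![1, 1, 0, 1; 2, 1, 2, 0; 2, 1, 2, 2; 1, 0, 1, 2],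
    !![2, 0, 0, 1; 1, 1, 2, 1; 1, 2, 2, 0; 1, 0, 0, 1],
    !![2, 0, 2, 2; 2, 2, 1, 0; 2, 2, 2, 1; 0, 2, 2, 2],
    !![0, 1, 1, 0; 2, 0, 2, 0; 1, 1, 2, 2; 0, 2, 0, 1],
    !![2, 1, 1, 1; 1, 1, 0, 1; 0, 0, 2, 2; 0, 0, 2, 1],
    !![0, 2, 0, 0; 2, 0, 0, 1; 2, 0, 1, 0; 2, 1, 1, 2],
    !![1, 2, 1, 0; 0, 2, 1, 1; 1, 0, 2, 1; 2, 1, 0, 2],
    !![1, 0, 1, 0; 0, 1, 2, 1; 1, 0, 1, 2; 0, 1, 0, 1],
    !![1, 1, 0, 0; 1, 0, 1, 1; 0, 0, 2, 1; 0, 0, 1, 0]]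
  e := 0
  gen := ![1, 2]
  rmul := ![
    ![1, 2],
    ![3, 4],
    ![5, 6],
    ![7, 8],
    ![9, 10],
    ![11, 12],
    ![13, 14],
    ![15, 16],
    ![17, 18],
    ![19, 20],
    ![21, 22],
    ![23, 3],
    ![24, 25],
    ![20, 26],
    ![4, 27],
    ![26, 28],
    ![6, 29],
    ![27, 30],
    ![31, 32],
    ![33, 7],
    ![34, 11],
    ![30, 35],
    ![8, 13],
    ![28, 31],
    ![29, 9],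
    ![32, 1],
    ![35, 36],
    ![12, 15],
    ![10, 37],
    ![38, 23],
    ![2, 19],
    ![14, 39],
    ![16, 21],
    ![36, 38],
    ![37, 17],
    ![39, 24],
    ![18, 5],
    ![25, 33],
    ![22, 0],
    ![0, 34]]
  pows := ![
    [0],
    [0, 1, 3, 7, 15, 26, 35, 39],
    [0, 2, 6, 14, 27, 15, 28, 37, 33, 38],
    [0, 3, 15, 35],
    [0, 4, 20, 17, 15, 36, 32, 29],
    [0, 5, 24, 19, 15, 10, 8, 31],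
    [0, 6, 27, 28, 33],
    [0, 7, 35, 1, 15, 39, 3, 26],
    [0, 8, 15, 24],
    [0, 9, 15, 18],
    [0, 10, 24, 31, 15, 5, 8, 19],
    [0, 11, 15, 21],
    [0, 12, 21, 34, 15, 22, 11, 16],
    [0, 13, 18, 30, 15, 25, 9, 23],
    [0, 14, 28, 38, 6, 15, 33, 2, 27, 37],
    [0, 15],
    [0, 16, 11, 22, 15, 34, 21, 12],
    [0, 17, 32, 4, 15, 29, 20, 36],
    [0, 18, 15, 9],
    [0, 19, 8, 5, 15, 31, 24, 10],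
    [0, 20, 15, 32],
    [0, 21, 15, 11],
    [0, 22, 21, 16, 15, 12, 11, 34],
    [0, 23, 9, 25, 15, 30, 18, 13],
    [0, 24, 15, 8],
    [0, 25, 18, 23, 15, 13, 9, 30],
    [0, 26, 3, 39, 15, 1, 35, 7],
    [0, 27, 33, 6, 28],
    [0, 28, 6, 33, 27],
    [0, 29, 32, 36, 15, 17, 20, 4],
    [0, 30, 9, 13, 15, 23, 18, 25],
    [0, 31, 8, 10, 15, 19, 24, 5],
    [0, 32, 15, 20],
    [0, 33, 28, 27, 6],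
    [0, 34, 11, 12, 15, 16, 21, 22],
    [0, 35, 15, 3],
    [0, 36, 20, 29, 15, 4, 32, 17],
    [0, 37, 27, 2, 33, 15, 6, 38, 28, 14],
    [0, 38, 33, 37, 28, 15, 27, 14, 6, 2],
    [0, 39, 35, 26, 15, 7, 3, 1]]

theorem frob40Model_valid : frob40Model.Valid := by
  unfold ModelData.Valid
  decide +kernel

theorem frob40Model_spectrum :
    Set.range (orderOf : SemiRep (frob40Model.rep (mvEnd 3 4)) → ℕ) =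
      {t | t ∈ [1, 2, 3, 4, 5, 8, 10]} := by
  refine frob40Model_valid.spectrum (mvEnd 3 4) 3 (nsmul_zmod_vec 3 4) [1, 2, 3, 4, 5, 8, 10] (by decide +kernel)
    (by norm_num) (Pi.single 0 1 : Fin 4 → ZMod 3) ?_
  rw [addOrderOf_single_one 3 4 (by norm_num)]
  decide +kernel

theorem frob40Model_solvable : Group.IsSolvable frob40Model.grp :=
  frob40Model_valid.grp_solvable 2 5 Nat.prime_two (by norm_num) (by norm_num)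
    (by decide +kernel)

end Cfsg.Agent.H79
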