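import Mathlib
import Cfsg.Agent.H79.OrbitCoprime

/-!
Extremely primitive groups: Manning's theorem that point stabilisers act faithfully on their
non-trivial orbits, and first consequences.
-/

set_option autoImplicit false

namespace Cfsg.Agent.H79

open MulAction Subgroup

variable {G : Type*} [Group G] {Ω : Type*} [MulAction G Ω]

variable (G) in
/-- The size of the orbit of the stabiliser of `α` containing `γ`. -/
noncomputable def suborbitCard (α γ : Ω) : ℕ := Nat.card (orbit (stabilizer G α) γ)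

theorem suborbit_image (g : G) (α γ : Ω) :
    orbit (stabilizer G (g • α)) (g • γ) = (fun x => g • x) '' orbit (stabilizer G α) γ := by
  ext x
  constructor
  · rintro ⟨⟨k, hk⟩, rfl⟩
    refine ⟨g⁻¹ • k • g • γ, ⟨⟨g⁻¹ * k * g, ?_⟩, ?_⟩, ?_⟩
    · rw [mem_stabilizer_iff, mul_smul, mul_smul, mem_stabilizer_iff.1 hk, inv_smul_smul]
    · show (g⁻¹ * k * g) • γ = _
      rw [mul_smul, mul_smul]
    · show g • g⁻¹ • k • g • γ = k • g • γ
      rw [smul_inv_smul]
  · rintro ⟨_, ⟨⟨k, hk⟩, rfl⟩, rfl⟩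
    refine ⟨⟨g * k * g⁻¹, ?_⟩, ?_⟩
    · rw [mem_stabilizer_iff, mul_smul, mul_smul, inv_smul_smul, mem_stabilizer_iff.1 hk]
    · show (g * k * g⁻¹) • g • γ = g • k • γ
      rw [mul_smul, mul_smul, inv_smul_smul]

theorem suborbitCard_smul (g : G) (α γ : Ω) :
    suborbitCard G (g • α) (g • γ) = suborbitCard G α γ := by
  rw [suborbitCard, suborbit_image, Nat.card_image_of_injective (MulAction.injective g)]
  rfl

theorem suborbitCard_mem (α : Ω) (h : G) (hh : h ∈ stabilizer G α) (γ : Ω) :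
    suborbitCard G α (h • γ) = suborbitCard G α γ := by
  conv_lhs => rw [← mem_stabilizer_iff.1 hh]
  exact suborbitCard_smul h α γ

variable [Finite Ω]

theorem suborbitCard_comm [Finite G] [IsPretransitive G Ω] (α β : Ω) :
    suborbitCard G β α = suborbitCard G α β := by
  simp only [suborbitCard, Nat.card_coe_set_eq, ← index_stabilizer]
  have e : ∀ a b : Ω, (stabilizer (stabilizer G a) b).index =
      (stabilizer G b).relIndex (stabilizer G a) := fun a b =>
    congrArg Subgroup.index (by ext k; rfl)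
  rw [e, e]
  have h1 := card_mul_relIndex_swap (stabilizer G β) (stabilizer G α)
  have h2 := card_mul_relIndex_swap (stabilizer G α) (stabilizer G β)
  have hs : Nat.card (stabilizer G α) = Nat.card (stabilizer G β) := by
    have a1 := Subgroup.card_mul_index (stabilizer G α)
    have a2 := Subgroup.card_mul_index (stabilizer G β)
    rw [index_stabilizer_of_transitive] at a1 a2
    haveI : Nonempty Ω := ⟨α⟩
    exact Nat.eq_of_mul_eq_mul_right Nat.card_pos (a1.trans a2.symm)
  rw [inf_comm, ← hs, ← h1] at h2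
  exact Nat.eq_of_mul_eq_mul_left Nat.card_pos h2

/-- Point stabilisers act primitively on each of their orbits. -/
def StabPrimitive (G Ω : Type*) [Group G] [MulAction G Ω] : Prop :=
  ∀ α ω : Ω, IsPreprimitive (stabilizer G α) (orbit (stabilizer G α) ω)

/-- A normal subgroup of a stabiliser is transitive or trivial on each suborbit. -/
theorem normal_fix_or_transitive (hep : StabPrimitive G Ω) {α : Ω} {K : Subgroup G}
    (hK : K ≤ stabilizer G α)
    (hn : stabilizer G α ≤ Subgroup.normalizer (K : Set G)) (ω : Ω) :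
    (∀ k ∈ K, ∀ x ∈ orbit (stabilizer G α) ω, k • x = x) ∨
      orbit K ω = orbit (stabilizer G α) ω := by
  haveI : (K.subgroupOf (stabilizer G α)).Normal :=
    (Subgroup.normal_subgroupOf_iff_le_normalizer hK).2 hn
  haveI := hep α ω
  set O := orbit (stabilizer G α) ω
  have hb : ∀ x : O,
      (orbit (K.subgroupOf (stabilizer G α)) x).Subsingleton ∨
        orbit (K.subgroupOf (stabilizer G α)) x = Set.univ :=
    fun x => IsPreprimitive.isTrivialBlock_of_isBlock (IsBlock.orbit_of_normal x)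
  by_cases h : ∀ x : O, (orbit (K.subgroupOf (stabilizer G α)) x).Subsingleton
  · left
    intro k hk x hx
    exact congrArg Subtype.val
      (h ⟨x, hx⟩ (mem_orbit _ (⟨⟨k, hK hk⟩, hk⟩ : K.subgroupOf (stabilizer G α)))
        (mem_orbit_self _))
  · right
    obtain ⟨x, hx⟩ := not_forall.1 h
    have hu := (hb x).resolve_left hx
    have hw : x ∈ orbit (K.subgroupOf (stabilizer G α))
        (⟨ω, mem_orbit_self ω⟩ : O) :=
      mem_orbit_symm.1 (hu.symm ▸ Set.mem_univ _)
    apply Set.Subset.antisymm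
    · rintro _ ⟨k, rfl⟩
      exact ⟨⟨k, hK k.2⟩, rfl⟩
    · intro y hy
      have hy' : (⟨y, hy⟩ : O) ∈ orbit (K.subgroupOf (stabilizer G α))
          (⟨ω, mem_orbit_self ω⟩ : O) := by
        rw [← orbit_eq_iff.2 hw, hu]; trivial
      obtain ⟨⟨k, hk⟩, hky⟩ := hy'
      exact ⟨⟨(k : G), hk⟩, congrArg Subtype.val hky⟩

variable [Finite G] [FaithfulSMul G Ω]

theorem normal_eq_bot_of_le_stabilizer [IsPretransitive G Ω] {K : Subgroup G} [K.Normal] {α : Ω}
    (h : K ≤ stabilizer G α) : K = ⊥ := by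
  refine (Subgroup.eq_bot_iff_forall _).2 fun k hk => FaithfulSMul.eq_of_smul_eq_smul (α := Ω) ?_
  intro x
  obtain ⟨g, rfl⟩ := exists_smul_eq G α x
  have hc : g⁻¹ * k * g ∈ K := by
    simpa using (inferInstance : K.Normal).conj_mem _ hk g⁻¹
  have := mem_stabilizer_iff.1 (h hc)
  rw [mul_smul, mul_smul, inv_smul_eq_iff] at this
  rw [one_smul]; exact this

theorem stabilizer_ne_of_ne [IsPreprimitive G Ω] (hH : ∀ α : Ω, stabilizer G α ≠ ⊥)
    {α β : Ω} (hne : β ≠ α) : stabilizer G β ≠ stabilizer G α := by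
  intro he
  haveI : Nontrivial Ω := ⟨⟨β, α, hne⟩⟩
  obtain ⟨g, hg⟩ := exists_smul_eq G α β
  have hn : g ∈ Subgroup.normalizer (stabilizer G α : Set G) := by
    rw [Subgroup.mem_normalizer_iff]
    intro h
    constructor
    · intro hh
      rw [← he, ← hg, mem_stabilizer_iff, mul_smul, mul_smul, inv_smul_smul,
        mem_stabilizer_iff.1 hh]
    · intro hh
      rw [← he, ← hg, mem_stabilizer_iff, mul_smul, mul_smul, inv_smul_smul, smul_left_cancel_iff]
        at hh
      exact mem_stabilizer_iff.2 hh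
  rcases (Subgroup.le_normalizer (H := stabilizer G α)).eq_or_lt with h | h
  · rw [← h] at hn
    exact hne (hg.symm.trans hn)
  · have ht := (IsPreprimitive.isCoatom_stabilizer_of_isPreprimitive (G := G) α).2 _ h
    haveI := Subgroup.normalizer_eq_top_iff.1 ht
    exact hH α (normal_eq_bot_of_le_stabilizer (α := α) le_rfl)

theorem sup_stabilizer_eq_top [IsPreprimitive G Ω] (hH : ∀ α : Ω, stabilizer G α ≠ ⊥)
    {α β : Ω} (hne : β ≠ α) : stabilizer G α ⊔ stabilizer G β = ⊤ := by
  haveI : Nontrivial Ω := ⟨⟨β, α, hne⟩⟩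
  apply (IsPreprimitive.isCoatom_stabilizer_of_isPreprimitive (G := G) α).2
  refine lt_of_le_of_ne le_sup_left fun h => stabilizer_ne_of_ne hH hne ?_
  have hle : stabilizer G β ≤ stabilizer G α := h ▸ le_sup_right
  by_contra hne'
  have := (IsPreprimitive.isCoatom_stabilizer_of_isPreprimitive (G := G) β).2 _
    (lt_of_le_of_ne hle hne')
  exact (IsPreprimitive.isCoatom_stabilizer_of_isPreprimitive (G := G) α).1 this

/-- No set other than the empty one and the whole of `Ω` is invariant under two stabilisers. -/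
theorem invariant_eq_univ [IsPreprimitive G Ω] (hH : ∀ α : Ω, stabilizer G α ≠ ⊥) {α β : Ω}
    (hne : β ≠ α) {Δ : Set Ω} {δ : Ω} (hδ : δ ∈ Δ)
    (h1 : ∀ g ∈ stabilizer G α, ∀ x ∈ Δ, g • x ∈ Δ)
    (h2 : ∀ g ∈ stabilizer G β, ∀ x ∈ Δ, g • x ∈ Δ) : Δ = Set.univ := by
  have hall : ∀ g : G, ∀ x ∈ Δ, g • x ∈ Δ := by
    intro g
    have hg : g ∈ stabilizer G α ⊔ stabilizer G β := by
      rw [sup_stabilizer_eq_top hH hne]; trivial
    rw [← Subgroup.mem_toSubmonoid, sup_eq_closure, Subgroup.closure_toSubmonoid_of_finite] at hg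
    induction hg using Submonoid.closure_induction with
    | mem y hy => rcases hy with hy | hy; exacts [h1 y hy, h2 y hy]
    | one => intro x hx; rwa [one_smul]
    | mul y z _ _ hy hz => intro x hx; rw [mul_smul]; exact hy _ (hz _ hx)
  refine Set.eq_univ_of_forall fun x => ?_
  obtain ⟨g, rfl⟩ := exists_smul_eq G δ x
  exact hall g δ hδ

/-- If `K` is transitive on an `α`-suborbit `Δ` and fixes `β`, the `β`-suborbit of `Δ` is
larger. -/
theorem suborbit_lt [IsPreprimitive G Ω] (hH : ∀ α : Ω, stabilizer G α ≠ ⊥)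
    {K : Subgroup G} {α β δ : Ω} (hne : β ≠ α) (hδ : δ ≠ α) (hKb : K ≤ stabilizer G β)
    (hK : orbit K δ = orbit (stabilizer G α) δ) :
    suborbitCard G α δ < suborbitCard G β δ ∧
      orbit (stabilizer G α) δ ⊆ orbit (stabilizer G β) δ := by
  have hsub : orbit (stabilizer G α) δ ⊆ orbit (stabilizer G β) δ := by
    rw [← hK]
    rintro _ ⟨k, rfl⟩
    exact ⟨⟨k, hKb k.2⟩, rfl⟩
  refine ⟨?_, hsub⟩
  rcases lt_or_eq_of_le (Nat.card_mono (Set.toFinite _) hsub) with h | h
  · exact h
  exfalso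
  have he : orbit (stabilizer G α) δ = orbit (stabilizer G β) δ :=
    (Set.toFinite _).eq_of_subset_of_encard_le hsub (by
      rw [← (Set.toFinite _).cast_ncard_eq, ← (Set.toFinite _).cast_ncard_eq]
      simp only [Nat.card_coe_set_eq] at h
      exact_mod_cast h.ge)
  have huniv := invariant_eq_univ hH hne (mem_orbit_self (M := stabilizer G α) δ)
    (fun g hg x hx => by
      obtain ⟨a, rfl⟩ := hx
      exact ⟨⟨g, hg⟩ * a, mul_smul (⟨g, hg⟩ : stabilizer G α) a δ⟩)
    (fun g hg x hx => by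
      rw [he] at hx ⊢
      obtain ⟨a, rfl⟩ := hx
      exact ⟨⟨g, hg⟩ * a, mul_smul (⟨g, hg⟩ : stabilizer G β) a δ⟩)
  obtain ⟨a, ha⟩ : α ∈ orbit (stabilizer G α) δ := huniv ▸ Set.mem_univ _
  exact hδ (smul_left_cancel a (ha.trans (mem_stabilizer_iff.1 a.2).symm))

/-- Pointwise fixer inside the stabiliser of `α` of the points in suborbits of size `m`. -/
def levelFix (m : ℕ) (α : Ω) : Subgroup G :=
  stabilizer G α ⊓ ⨅ γ ∈ {γ : Ω | suborbitCard G α γ = m}, stabilizer G γ

theorem mem_levelFix {m : ℕ} {α : Ω} {g : G} :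
    g ∈ levelFix m α ↔ g • α = α ∧ ∀ γ, suborbitCard G α γ = m → g • γ = γ := by
  simp [levelFix, Subgroup.mem_iInf]

theorem conj_mem_levelFix {m : ℕ} {α : Ω} {g k : G} (hk : k ∈ levelFix m α) :
    g * k * g⁻¹ ∈ levelFix m (g • α) := by
  rw [mem_levelFix] at hk ⊢
  refine ⟨by rw [mul_smul, mul_smul, inv_smul_smul, hk.1], fun γ hγ => ?_⟩
  have := hk.2 (g⁻¹ • γ) (by rw [← suborbitCard_smul g, smul_inv_smul]; exact hγ)
  rw [mul_smul, mul_smul, this, smul_inv_smul]

theorem card_levelFix [IsPretransitive G Ω] (m : ℕ) (α β : Ω) :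
    Nat.card (levelFix (G := G) m α) = Nat.card (levelFix (G := G) m β) := by
  have key : ∀ a b : Ω, Nat.card (levelFix (G := G) m a) ≤ Nat.card (levelFix (G := G) m b) := by
    intro a b
    obtain ⟨g, rfl⟩ := exists_smul_eq G a b
    exact Nat.card_le_card_of_injective (fun k => ⟨g * k * g⁻¹, conj_mem_levelFix k.2⟩)
      (fun x y h => Subtype.ext (by simpa using congrArg Subtype.val h))
  exact le_antisymm (key _ _) (key _ _)

theorem stabilizer_le_normalizer_levelFix (m : ℕ) (α : Ω) :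
    stabilizer G α ≤ Subgroup.normalizer ((levelFix (G := G) m α : Subgroup G) : Set G) := by
  intro g hg
  have hg' := mem_stabilizer_iff.1 hg
  rw [Subgroup.mem_normalizer_iff]
  intro k
  constructor
  · intro hk
    have := conj_mem_levelFix (g := g) hk
    rwa [hg'] at this
  · intro hk
    have := conj_mem_levelFix (g := g⁻¹) hk
    rw [inv_smul_eq_iff.2 hg'.symm] at this
    simpa [mul_assoc] using this

/-- A subgroup normal in a stabiliser that fixes a nontrivial suborbit pointwise fixes the largest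
suborbits pointwise. -/
theorem le_levelFix [IsPreprimitive G Ω] (hH : ∀ α : Ω, stabilizer G α ≠ ⊥)
    (hep : StabPrimitive G Ω) {m : ℕ} (hmax : ∀ a b : Ω, suborbitCard G a b ≤ m)
    {K : Subgroup G} {α β : Ω} (hne : β ≠ α) (hK : K ≤ stabilizer G α)
    (hn : stabilizer G α ≤ Subgroup.normalizer (K : Set G)) (hKb : K ≤ stabilizer G β) :
    K ≤ levelFix m α := by
  intro k hk
  refine mem_levelFix.2 ⟨hK hk, fun γ hγ => ?_⟩
  rcases eq_or_ne γ α with rfl | hγα
  · exact hK hk
  rcases normal_fix_or_transitive hep hK hn γ with h | h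
  · exact h k hk γ (mem_orbit_self γ)
  · exact absurd (suborbit_lt hH hne hγα hKb h).1 (by rw [hγ]; exact (hmax β γ).not_gt)

/-- The pointwise fixer of an invariant set is normalised by the stabiliser. -/
theorem le_normalizer_pointwiseFix {α : Ω} (s : Set Ω)
    (hs : ∀ g ∈ stabilizer G α, ∀ x ∈ s, g • x ∈ s) :
    stabilizer G α ≤
      Subgroup.normalizer ((stabilizer G α ⊓ ⨅ x ∈ s, stabilizer G x : Subgroup G) : Set G) := by
  intro u hu
  rw [Subgroup.mem_normalizer_iff]
  intro k
  simp only [Subgroup.mem_inf, Subgroup.mem_iInf, mem_stabilizer_iff]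
  have hu' : u⁻¹ • α = α := inv_smul_eq_iff.2 (mem_stabilizer_iff.1 hu).symm
  constructor
  · rintro ⟨h1, h2⟩
    refine ⟨by rw [mul_smul, mul_smul, hu', h1, mem_stabilizer_iff.1 hu], fun x hx => ?_⟩
    rw [mul_smul, mul_smul, h2 _ (hs _ (inv_mem hu) x hx), smul_inv_smul]
  · rintro ⟨h1, h2⟩
    refine ⟨?_, fun x hx => ?_⟩
    · rw [mul_smul, mul_smul, hu'] at h1
      exact smul_left_cancel u (h1.trans (mem_stabilizer_iff.1 hu).symm)
    · have := h2 _ (hs _ hu x hx)
      rw [mul_smul, mul_smul, inv_smul_smul, smul_left_cancel_iff] at this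
      exact this

theorem orbit_invariant {α ω : Ω} (g : G) (hg : g ∈ stabilizer G α) (x : Ω)
    (hx : x ∈ orbit (stabilizer G α) ω) : g • x ∈ orbit (stabilizer G α) ω := by
  obtain ⟨a, rfl⟩ := hx
  exact ⟨⟨g, hg⟩ * a, mul_smul (⟨g, hg⟩ : stabilizer G α) a ω⟩

/-- Manning: in an extremely primitive group stabilisers are faithful on nontrivial orbits. -/
theorem manning [IsPreprimitive G Ω] (hH : ∀ α : Ω, stabilizer G α ≠ ⊥)
    (hep : StabPrimitive G Ω) {α ω : Ω} (hω : ω ≠ α) {h : G} (hh : h ∈ stabilizer G α)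
    (hfix : ∀ x ∈ orbit (stabilizer G α) ω, h • x = x) : h = 1 := by
  classical
  haveI := Fintype.ofFinite Ω
  haveI : Nonempty (Ω × Ω) := ⟨(α, ω)⟩
  obtain ⟨⟨a0, b0⟩, hm0⟩ := Finite.exists_max fun p : Ω × Ω => suborbitCard G p.1 p.2
  set m := suborbitCard G a0 b0
  have hmax : ∀ a b : Ω, suborbitCard G a b ≤ m := fun a b => hm0 (a, b)
  -- a suborbit of size `m` at `α`
  obtain ⟨g, hg⟩ := exists_smul_eq G a0 α
  set β := g • b0
  have hβm : suborbitCard G α β = m := by rw [← hg]; exact suborbitCard_smul g a0 b0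
  have hsingle : suborbitCard G α α = 1 := by
    have : orbit (stabilizer G α) α = {α} := by
      ext x
      constructor
      · rintro ⟨k, rfl⟩; exact mem_stabilizer_iff.1 k.2
      · rintro rfl; exact mem_orbit_self _
    rw [suborbitCard, this, Nat.card_eq_fintype_card]; simp
  have hβα : β ≠ α := by
    intro e
    rw [e, hsingle] at hβm
    -- then the stabiliser of `α` fixes every point
    apply hH α
    refine (Subgroup.eq_bot_iff_forall _).2 fun k hk => FaithfulSMul.eq_of_smul_eq_smul (α := Ω) ?_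
    intro x
    have h1 : suborbitCard G α x ≤ 1 := hβm ▸ hmax α x
    have : Subsingleton (orbit (stabilizer G α) x) := Finite.card_le_one_iff_subsingleton.1 h1
    rw [one_smul]
    exact congrArg Subtype.val (this.elim ⟨k • x, ⟨⟨k, hk⟩, rfl⟩⟩ ⟨x, mem_orbit_self x⟩)
  suffices hbot : levelFix (G := G) m α = ⊥ by
    let L : Subgroup G := stabilizer G α ⊓ ⨅ x ∈ orbit (stabilizer G α) ω, stabilizer G x
    have hL : ∀ k, k ∈ L ↔ k • α = α ∧ ∀ x ∈ orbit (stabilizer G α) ω, k • x = x := fun k => by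
      simp [L, Subgroup.mem_iInf]
    have hLn : stabilizer G α ≤ Subgroup.normalizer (L : Set G) :=
      le_normalizer_pointwiseFix _ orbit_invariant
    have hle := le_levelFix hH hep hmax (β := ω) (K := L) hω inf_le_left hLn
      (fun k hk => ((hL k).1 hk).2 ω (mem_orbit_self ω))
    rw [hbot] at hle
    exact Subgroup.mem_bot.1 (hle ((hL h).2 ⟨hh, hfix⟩))
  by_contra hne
  -- a point moved, in a suborbit as large as possible
  obtain ⟨k0, hk0, hk0ne⟩ := Subgroup.bot_or_exists_ne_one (levelFix m α) |>.resolve_left hne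
  have hmoved : {γ : Ω | ∃ k ∈ levelFix (G := G) m α, k • γ ≠ γ}.Nonempty := by
    obtain ⟨γ, hγ⟩ : ∃ γ : Ω, k0 • γ ≠ γ := by
      by_contra hc
      exact hk0ne (FaithfulSMul.eq_of_smul_eq_smul (α := Ω) fun x => by
        rw [one_smul]; exact not_not.1 fun e => hc ⟨x, e⟩)
    exact ⟨γ, k0, hk0, hγ⟩
  obtain ⟨γ, hγ, hγmax⟩ :=
    Set.exists_max_image _ (suborbitCard G α) (Set.toFinite _) hmoved
  obtain ⟨k, hk, hkγ⟩ := hγ
  have hγα : γ ≠ α := fun e => hkγ (e ▸ (mem_levelFix.1 hk).1)
  have hKb : levelFix (G := G) m α ≤ stabilizer G β := fun u hu => (mem_levelFix.1 hu).2 β hβm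
  have hKn := stabilizer_le_normalizer_levelFix (G := G) m α
  have horb : orbit (levelFix m α : Subgroup G) γ = orbit (stabilizer G α) γ :=
    (normal_fix_or_transitive hep inf_le_left hKn γ).resolve_left fun hf =>
      hkγ (hf k hk γ (mem_orbit_self γ))
  obtain ⟨hlt, hsub⟩ := suborbit_lt hH hβα hγα hKb horb
  -- so the fixer at `β` fixes the whole `α`-suborbit of `γ`
  have hfixb : ∀ u ∈ levelFix (G := G) m β, ∀ x ∈ orbit (stabilizer G α) γ, u • x = x := by
    intro u hu x hx
    obtain ⟨g', hg'⟩ := exists_smul_eq G α β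
    have hxc : suborbitCard G β x = suborbitCard G β γ := by
      obtain ⟨a, rfl⟩ := hsub hx
      exact suborbitCard_mem (G := G) β (a : G) a.2 γ
    by_contra hux
    have hu' : g'⁻¹ * u * g' ∈ levelFix (G := G) m α := by
      have := conj_mem_levelFix (g := g'⁻¹) hu
      rwa [inv_inv, ← hg', inv_smul_smul] at this
    have := hγmax (g'⁻¹ • x) ⟨_, hu', by
      rw [mul_smul, mul_smul, smul_inv_smul]
      exact fun e => hux (MulAction.injective _ e)⟩
    rw [← suborbitCard_smul g', smul_inv_smul, hg', hxc] at this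
    exact hlt.not_ge this
  let L : Subgroup G := stabilizer G α ⊓ ⨅ x ∈ orbit (stabilizer G α) γ, stabilizer G x
  have hL : ∀ k, k ∈ L ↔ k • α = α ∧ ∀ x ∈ orbit (stabilizer G α) γ, k • x = x := fun k => by
    simp [L, Subgroup.mem_iInf]
  have hLn : stabilizer G α ≤ Subgroup.normalizer (L : Set G) :=
    le_normalizer_pointwiseFix _ orbit_invariant
  have hle1 := le_levelFix hH hep hmax (β := γ) (K := L) hγα inf_le_left hLn
    (fun k hk => ((hL k).1 hk).2 γ (mem_orbit_self γ))
  have hcomm : suborbitCard G β α = m := (suborbitCard_comm α β).trans hβm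
  have hle : levelFix (G := G) m β ≤ levelFix m α := fun u hu =>
    hle1 ((hL u).2 ⟨(mem_levelFix.1 hu).2 α hcomm, hfixb u hu⟩)
  have heq : levelFix (G := G) m β = levelFix m α :=
    Subgroup.eq_of_le_of_card_ge hle (card_levelFix m α β).le
  haveI : (levelFix (G := G) m α).Normal := by
    rw [← Subgroup.normalizer_eq_top_iff, ← top_le_iff, ← sup_stabilizer_eq_top hH hβα]
    exact sup_le hKn (heq ▸ stabilizer_le_normalizer_levelFix m β)
  exact hne (normal_eq_bot_of_le_stabilizer (α := α) inf_le_left)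

end Cfsg.Agent.H79
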