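import Cfsg.Agent.H79.FiniteModel
import Cfsg.Agent.H79.MatrixEnd

/-!
A certified list of the elements of a fixed-point-free matrix group of order 48 over the field
with 13 elements.
-/

set_option autoImplicit false
set_option maxRecDepth 100000

namespace Cfsg.Agent.H79

/-- The certificate of the group of order 48. -/
def octaModel : ModelData (Matrix (Fin 4) (Fin 4) (ZMod 13)) 48 2 where
  elt := ![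
    !![1, 0, 0, 0; 0, 1, 0, 0; 0, 0, 1, 0; 0, 0, 0, 1],
    !![0, 6, 0, 0; 3, 0, 0, 0; 0, 0, 0, 9; 0, 0, 11, 0],
    !![11, 0, 10, 0; 0, 11, 0, 10; 11, 0, 3, 0; 0, 11, 0, 3],
    !![5, 0, 0, 0; 0, 5, 0, 0; 0, 0, 8, 0; 0, 0, 0, 8],
    !![0, 1, 0, 8; 7, 0, 4, 0; 0, 8, 0, 1; 4, 0, 7, 0],
    !![0, 1, 0, 12; 7, 0, 6, 0; 0, 1, 0, 1; 7, 0, 7, 0],
    !![10, 0, 10, 0; 0, 10, 0, 10; 11, 0, 2, 0; 0, 11, 0, 2],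
    !![0, 4, 0, 0; 2, 0, 0, 0; 0, 0, 0, 7; 0, 0, 10, 0],
    !![3, 0, 11, 0; 0, 3, 0, 11; 10, 0, 11, 0; 0, 10, 0, 11],
    !![3, 0, 10, 0; 0, 3, 0, 10; 11, 0, 11, 0; 0, 11, 0, 11],
    !![0, 8, 0, 8; 4, 0, 4, 0; 0, 8, 0, 5; 4, 0, 9, 0],
    !![3, 0, 2, 0; 0, 3, 0, 2; 3, 0, 11, 0; 0, 3, 0, 11],
    !![0, 0, 0, 7; 0, 0, 10, 0; 0, 9, 0, 0; 11, 0, 0, 0],
    !![0, 8, 0, 12; 4, 0, 6, 0; 0, 1, 0, 5; 7, 0, 9, 0],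
    !![12, 0, 0, 0; 0, 12, 0, 0; 0, 0, 12, 0; 0, 0, 0, 12],
    !![0, 5, 0, 1; 9, 0, 7, 0; 0, 12, 0, 8; 6, 0, 4, 0],
    !![0, 5, 0, 8; 9, 0, 4, 0; 0, 8, 0, 8; 4, 0, 4, 0],
    !![11, 0, 11, 0; 0, 11, 0, 11; 10, 0, 3, 0; 0, 10, 0, 3],
    !![0, 5, 0, 12; 9, 0, 6, 0; 0, 1, 0, 8; 7, 0, 4, 0],
    !![0, 0, 8, 0; 0, 0, 0, 8; 8, 0, 0, 0; 0, 8, 0, 0],
    !![0, 7, 0, 0; 10, 0, 0, 0; 0, 0, 0, 4; 0, 0, 2, 0],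
    !![0, 5, 0, 5; 9, 0, 9, 0; 0, 5, 0, 8; 9, 0, 4, 0],
    !![0, 0, 12, 0; 0, 0, 0, 12; 1, 0, 0, 0; 0, 1, 0, 0],
    !![0, 12, 0, 8; 6, 0, 4, 0; 0, 8, 0, 12; 4, 0, 6, 0],
    !![11, 0, 2, 0; 0, 11, 0, 2; 3, 0, 3, 0; 0, 3, 0, 3],
    !![0, 12, 0, 12; 6, 0, 6, 0; 0, 1, 0, 12; 7, 0, 6, 0],
    !![2, 0, 3, 0; 0, 2, 0, 3; 2, 0, 10, 0; 0, 2, 0, 10],
    !![2, 0, 11, 0; 0, 2, 0, 11; 10, 0, 10, 0; 0, 10, 0, 10],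
    !![0, 1, 0, 1; 7, 0, 7, 0; 0, 12, 0, 1; 6, 0, 7, 0],
    !![2, 0, 10, 0; 0, 2, 0, 10; 11, 0, 10, 0; 0, 11, 0, 10],
    !![0, 0, 0, 9; 0, 0, 11, 0; 0, 7, 0, 0; 10, 0, 0, 0],
    !![8, 0, 0, 0; 0, 8, 0, 0; 0, 0, 5, 0; 0, 0, 0, 5],
    !![2, 0, 2, 0; 0, 2, 0, 2; 3, 0, 10, 0; 0, 3, 0, 10],
    !![10, 0, 11, 0; 0, 10, 0, 11; 10, 0, 2, 0; 0, 10, 0, 2],
    !![0, 12, 0, 5; 6, 0, 9, 0; 0, 5, 0, 12; 9, 0, 6, 0],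
    !![0, 0, 0, 4; 0, 0, 2, 0; 0, 6, 0, 0; 3, 0, 0, 0],
    !![0, 12, 0, 1; 6, 0, 7, 0; 0, 12, 0, 12; 6, 0, 6, 0],
    !![0, 1, 0, 5; 7, 0, 9, 0; 0, 5, 0, 1; 9, 0, 7, 0],
    !![10, 0, 2, 0; 0, 10, 0, 2; 3, 0, 2, 0; 0, 3, 0, 2],
    !![3, 0, 3, 0; 0, 3, 0, 3; 2, 0, 11, 0; 0, 2, 0, 11],
    !![0, 0, 1, 0; 0, 0, 0, 1; 12, 0, 0, 0; 0, 12, 0, 0],
    !![0, 9, 0, 0; 11, 0, 0, 0; 0, 0, 0, 6; 0, 0, 3, 0],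
    !![0, 8, 0, 1; 4, 0, 7, 0; 0, 12, 0, 5; 6, 0, 9, 0],
    !![10, 0, 3, 0; 0, 10, 0, 3; 2, 0, 2, 0; 0, 2, 0, 2],
    !![0, 0, 5, 0; 0, 0, 0, 5; 5, 0, 0, 0; 0, 5, 0, 0],
    !![0, 0, 0, 6; 0, 0, 3, 0; 0, 4, 0, 0; 2, 0, 0, 0],
    !![0, 8, 0, 5; 4, 0, 9, 0; 0, 5, 0, 5; 9, 0, 9, 0],
    !![11, 0, 3, 0; 0, 11, 0, 3; 2, 0, 3, 0; 0, 2, 0, 3]]
  e := 0
  gen := ![1, 2]
  rmul := ![
    ![1, 2],
    ![3, 4],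
    ![5, 6],
    ![7, 8],
    ![9, 10],
    ![11, 12],
    ![13, 14],
    ![14, 15],
    ![16, 17],
    ![18, 19],
    ![2, 20],
    ![21, 9],
    ![22, 23],
    ![24, 25],
    ![20, 26],
    ![27, 28],
    ![29, 30],
    ![4, 31],
    ![32, 16],
    ![12, 33],
    ![31, 34],
    ![26, 1],
    ![35, 29],
    ![6, 36],
    ![37, 22],
    ![38, 7],
    ![36, 39],
    ![23, 40],
    ![8, 41],
    ![25, 27],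
    ![19, 42],
    ![41, 38],
    ![34, 3],
    ![10, 43],
    ![43, 21],
    ![44, 18],
    ![33, 45],
    ![39, 5],
    ![46, 32],
    ![15, 0],
    ![30, 47],
    ![0, 13],
    ![17, 46],
    ![42, 44],
    ![45, 11],
    ![40, 37],
    ![47, 35],
    ![28, 24]]
  pows := ![
    [0],
    [0, 1, 3, 7, 14, 20, 31, 41],
    [0, 2, 6, 14, 26, 39],
    [0, 3, 14, 31],
    [0, 4, 19, 23, 14, 34, 44, 37],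
    [0, 5, 22, 25, 14, 36, 40, 28],
    [0, 6, 26],
    [0, 7, 31, 1, 14, 41, 3, 20],
    [0, 8, 27, 14, 38, 24],
    [0, 9, 29, 14, 43, 47],
    [0, 10, 14, 21],
    [0, 11, 32, 14, 33, 17],
    [0, 12, 14, 45],
    [0, 13, 14, 15],
    [0, 14],
    [0, 15, 14, 13],
    [0, 16, 14, 46],
    [0, 17, 33, 14, 32, 11],
    [0, 18, 14, 42],
    [0, 19, 14, 44],
    [0, 20, 3, 41, 14, 1, 31, 7],
    [0, 21, 14, 10],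
    [0, 22, 14, 40],
    [0, 23, 44, 4, 14, 37, 19, 34],
    [0, 24, 38, 14, 27, 8],
    [0, 25, 40, 5, 14, 28, 22, 36],
    [0, 26, 6],
    [0, 27, 38],
    [0, 28, 40, 36, 14, 25, 22, 5],
    [0, 29, 43],
    [0, 30, 14, 35],
    [0, 31, 14, 3],
    [0, 32, 33],
    [0, 33, 32],
    [0, 34, 19, 37, 14, 4, 44, 23],
    [0, 35, 14, 30],
    [0, 36, 22, 28, 14, 5, 40, 25],
    [0, 37, 44, 34, 14, 23, 19, 4],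
    [0, 38, 27],
    [0, 39, 26, 14, 6, 2],
    [0, 40, 14, 22],
    [0, 41, 31, 20, 14, 7, 3, 1],
    [0, 42, 14, 18],
    [0, 43, 29],
    [0, 44, 14, 19],
    [0, 45, 14, 12],
    [0, 46, 14, 16],
    [0, 47, 43, 14, 29, 9]]

theorem octaModel_valid : octaModel.Valid := by
  unfold ModelData.Valid
  decide +kernel

theorem octaModel_spectrum :
    Set.range (orderOf : SemiRep (octaModel.rep (mvEnd 13 4)) → ℕ) =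
      {t | t ∈ [1, 2, 3, 4, 6, 8, 13]} := by
  refine octaModel_valid.spectrum (mvEnd 13 4) 13 (nsmul_zmod_vec 13 4) [1, 2, 3, 4, 6, 8, 13] (by decide +kernel)
    (by norm_num) (Pi.single 0 1 : Fin 4 → ZMod 13) ?_
  rw [addOrderOf_single_one 13 4 (by norm_num)]
  decide +kernel

theorem octaModel_solvable : Group.IsSolvable octaModel.grp :=
  octaModel_valid.grp_solvable 2 3 Nat.prime_two (by norm_num) (by norm_num)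
    (by decide +kernel)

end Cfsg.Agent.H79
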