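import Cfsg.Agent.H80.PrimitiveNormal
import Cfsg.Agent.H80.SimpleFactorConj

/-!
Primitive groups that are not almost simple and have one class of derangements.
-/

set_option autoImplicit false

open MulAction

namespace Cfsg.Agent.H79

variable {G : Type*} [Group G] [Finite G] {Ω : Type*} [Finite Ω] [MulAction G Ω]

/-- In a sharply 2-transitive group the derangements form one class. -/
theorem card_derangementClasses_of_sharply [FaithfulSMul G Ω] [Nontrivial Ω]
    (h2 : IsMultiplyPretransitive G Ω 2)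
    (hsharp : ∀ g : G, g ≠ 1 → ∀ a b : Ω, a ≠ b → g • a = a → g • b ≠ b) :
    Nat.card {c : ConjClasses G // ∃ g : G, ConjClasses.mk g = c ∧ ∀ ω : Ω, g • ω ≠ ω} = 1 := by
  classical
  haveI := Fintype.ofFinite Ω
  haveI := Fintype.ofFinite G
  obtain ⟨α, β, hαβ⟩ := exists_pair_ne Ω
  rw [is_two_pretransitive_iff] at h2
  haveI htr : IsPretransitive G Ω := ⟨fun a b => by
    obtain ⟨a', ha'⟩ := exists_ne a
    obtain ⟨b', hb'⟩ := exists_ne b
    obtain ⟨g, hg, -⟩ := @h2 a a' b b' ha'.symm hb'.symm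
    exact ⟨g, hg⟩⟩
  set n := Nat.card Ω with hn
  set s := Nat.card (stabilizer G α) with hs
  have hstab : s = n - 1 := by
    have e : stabilizer G α ≃ {ω : Ω // ω ≠ α} := Equiv.ofBijective
      (fun k => ⟨k.1 • β, fun h => hαβ ((smul_left_cancel k.1
        (h.trans (mem_stabilizer_iff.1 k.2).symm)).symm)⟩)
      ⟨fun x y hxy => by
        have h' : x.1 • β = y.1 • β := congrArg Subtype.val hxy
        by_contra hne
        refine hsharp (y.1⁻¹ * x.1) (fun h => hne (Subtype.ext (inv_mul_eq_one.1 h).symm)) α β hαβ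
          ?_ (by rw [mul_smul, h', inv_smul_smul])
        rw [mul_smul, mem_stabilizer_iff.1 x.2, inv_smul_eq_iff, mem_stabilizer_iff.1 y.2],
      fun ω => by
        obtain ⟨g, hg, hg'⟩ := @h2 α β α ω.1 hαβ ω.2.symm
        exact ⟨⟨g, hg⟩, Subtype.ext hg'⟩⟩
    have hc : Fintype.card {ω : Ω // ω ≠ α} = Fintype.card Ω - 1 :=
      Set.card_ne_eq α
    rw [hs, Nat.card_congr e, hn, Nat.card_eq_fintype_card, Nat.card_eq_fintype_card, hc]
  have hn2 : 2 ≤ n := Finite.one_lt_card_iff_nontrivial.2 inferInstance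
  have hG : Nat.card G = s * n := by
    rw [← Subgroup.card_mul_index (stabilizer G α), index_stabilizer_of_transitive]
  -- counting fixed points
  set D := Finset.univ.filter (fun g : G => ∀ ω : Ω, g • ω ≠ ω) with hD
  have hone : ∀ g : G, g ∉ D → g ≠ 1 → Nat.card (fixedBy Ω g) = 1 := by
    intro g hg hg1
    simp only [hD, Finset.mem_filter, Finset.mem_univ, true_and, not_forall, not_not] at hg
    obtain ⟨ω, hω⟩ := hg
    rw [Nat.card_eq_one_iff_exists]
    exact ⟨⟨ω, hω⟩, fun x => Subtype.ext (by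
      by_contra hne
      exact hsharp g hg1 ω x.1 (Ne.symm hne) hω x.2)⟩
  have htot : ∑ g : G, Nat.card (fixedBy Ω g) = Nat.card G := by
    rw [H80.sum_card_fixedBy_eq]
    have := (pretransitive_iff_subsingleton_quotient G Ω).1 htr
    rw [Nat.card_of_subsingleton (Quotient.mk _ α), one_mul]
  have h1D : (1 : G) ∉ D := fun h => (Finset.mem_filter.1 h).2 α (one_smul G α)
  have hzero : ∀ g ∈ D, Nat.card (fixedBy Ω g) = 0 := fun g hg => by
    rw [Nat.card_eq_zero]
    exact Or.inl ⟨fun ω => (Finset.mem_filter.1 hg).2 ω.1 ω.2⟩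
  have hDcard : D.card = s := by
    rw [← Finset.sum_add_sum_compl D, Finset.sum_eq_zero hzero, zero_add,
      ← Finset.add_sum_erase _ _ (Finset.mem_compl.2 h1D),
      Finset.sum_congr rfl (fun g hg => hone g (Finset.mem_compl.1 (Finset.mem_of_mem_erase hg))
        (Finset.ne_of_mem_erase hg)), fixedBy_one_eq_univ, Nat.card_coe_set_eq, Set.ncard_univ,
      Finset.sum_const, smul_eq_mul, mul_one, Finset.card_erase_of_mem (Finset.mem_compl.2 h1D),
      Finset.card_compl, ← Nat.card_eq_fintype_card] at htot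
    have hle : D.card ≤ Nat.card G := by
      rw [Nat.card_eq_fintype_card]; exact Finset.card_le_univ D
    have hlt : D.card < Nat.card G := by
      refine lt_of_le_of_ne hle fun h => ?_
      rw [Nat.card_eq_fintype_card] at h
      exact h1D (Finset.eq_univ_of_card D h ▸ Finset.mem_univ 1)
    rw [← hn] at htot
    omega
  have hDne : D.Nonempty := Finset.card_pos.1 (by omega)
  obtain ⟨d, hd⟩ := hDne
  have hd' : ∀ ω : Ω, d • ω ≠ ω := (Finset.mem_filter.1 hd).2
  have himage : Finset.univ.image (fun k : stabilizer G α => k.1 * d * k.1⁻¹) = D := by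
    apply Finset.eq_of_subset_of_card_le
    · intro x hx
      obtain ⟨k, -, rfl⟩ := Finset.mem_image.1 hx
      refine Finset.mem_filter.2 ⟨Finset.mem_univ _, fun ω h => hd' (k.1⁻¹ • ω) ?_⟩
      rw [mul_smul, mul_smul] at h
      exact eq_inv_smul_iff.2 h
    · rw [hDcard, Finset.card_image_of_injective, Finset.card_univ, hs, Nat.card_eq_fintype_card]
      intro x y hxy
      have h : x.1 * d * x.1⁻¹ = y.1 * d * y.1⁻¹ := hxy
      by_contra hne
      set u := y.1⁻¹ * x.1 with hu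
      have hu1 : u ≠ 1 := fun h1 => hne (Subtype.ext (inv_mul_eq_one.1 h1).symm)
      have huα : u • α = α := by
        rw [mul_smul, mem_stabilizer_iff.1 x.2, inv_smul_eq_iff, mem_stabilizer_iff.1 y.2]
      have hud : u * d = d * u := by
        calc u * d = y.1⁻¹ * (x.1 * d * x.1⁻¹) * x.1 := by rw [hu]; group
          _ = d * u := by rw [h, hu]; group
      exact hsharp u hu1 α (d • α) (hd' α).symm huα (by rw [← mul_smul, hud, mul_smul, huα])
  rw [Nat.card_eq_one_iff_exists]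
  refine ⟨⟨ConjClasses.mk d, d, rfl, hd'⟩, ?_⟩
  rintro ⟨_, g, rfl, hg⟩
  have : g ∈ D := Finset.mem_filter.2 ⟨Finset.mem_univ _, hg⟩
  rw [← himage] at this
  obtain ⟨k, -, rfl⟩ := Finset.mem_image.1 this
  exact Subtype.ext (ConjClasses.mk_eq_mk_iff_isConj.2 (isConj_iff.2 ⟨k.1, rfl⟩).symm)

/-- One derangement class forces sharp 2-transitivity, unless the group is almost simple. -/
theorem sharply_of_one_derangementClass [FaithfulSMul G Ω] [Nontrivial Ω]
    (hprim : IsPreprimitive G Ω)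
    (hnas : ¬ ∃ T : Subgroup G, T.Normal ∧ IsSimpleGroup T ∧ ¬ IsMulCommutative T ∧
      Subgroup.centralizer (T : Set G) = ⊥)
    (hone : Nat.card {c : ConjClasses G // ∃ g : G, ConjClasses.mk g = c ∧ ∀ ω : Ω, g • ω ≠ ω} = 1) :
    IsMultiplyPretransitive G Ω 2 ∧
      ∀ g : G, g ≠ 1 → ∀ a b : Ω, a ≠ b → g • a = a → g • b ≠ b := by
  classical
  haveI := Fintype.ofFinite Ω
  have hconj : ∀ x y : G, (∀ ω : Ω, x • ω ≠ ω) → (∀ ω : Ω, y • ω ≠ ω) → IsConj x y := by
    intro x y hx hy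
    haveI := (Nat.card_eq_one_iff_unique.1 hone).1
    exact ConjClasses.mk_eq_mk_iff_isConj.1 (congrArg Subtype.val (Subsingleton.elim
      (⟨ConjClasses.mk x, x, rfl, hx⟩ : {c : ConjClasses G //
        ∃ g : G, ConjClasses.mk g = c ∧ ∀ ω : Ω, g • ω ≠ ω}) ⟨ConjClasses.mk y, y, rfl, hy⟩))
  have hordconj : ∀ x y : G, IsConj x y → orderOf x = orderOf y := by
    intro x y h
    obtain ⟨c, rfl⟩ := isConj_iff.1 h
    exact SemiconjBy.orderOf_eq c (by simp [SemiconjBy, mul_assoc])
  obtain ⟨α, β, hαβ⟩ := exists_pair_ne Ω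
  obtain ⟨g₀, hg₀⟩ := hprim.toIsPretransitive.exists_smul_eq α β
  haveI : Nontrivial G := ⟨g₀, 1, by rintro rfl; exact hαβ (by simpa using hg₀)⟩
  obtain ⟨N, -, hN⟩ := H80.exists_minimalNormalized (⊤ : Subgroup G) ⊤ top_ne_bot le_rfl
    (fun a _ x _ => trivial)
  have hNn := hN.normal
  have hNt := H80.isPretransitive_of_normal hprim hNn hN.ne_bot
  by_cases hc : ∀ x ∈ N, ∀ y ∈ N, x * y = y * x
  swap
  · exfalso
    obtain ⟨T, hT⟩ := H80.exists_simpleFactor hN hc
    by_cases hC : Subgroup.centralizer (N : Set G) = ⊥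
    swap
    · have hCt := H80.isPretransitive_of_normal hprim
        (inferInstance : (Subgroup.centralizer (N : Set G)).Normal) hC
      obtain ⟨z, hz, hz1⟩ := (Subgroup.bot_or_exists_ne_one _).resolve_left hC
      obtain ⟨x, hx, hx1⟩ := (Subgroup.bot_or_exists_ne_one _).resolve_left hN.ne_bot
      have hxfree : ∀ ω : Ω, x • ω ≠ ω := fun ω hω => hx1
        (H80.eq_one_of_commute_transitive (C := Subgroup.centralizer (N : Set G))
          (fun c hc => Subgroup.mem_centralizer_iff.1 hc x hx) hω)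
      have hzfree : ∀ ω : Ω, z • ω ≠ ω := fun ω hω => hz1
        (H80.eq_one_of_commute_transitive (C := N)
          (fun c hc => (Subgroup.mem_centralizer_iff.1 hz c hc).symm) hω)
      obtain ⟨c, hcx⟩ := isConj_iff.1 (hconj z x hzfree hxfree)
      have hxC : x ∈ Subgroup.centralizer (N : Set G) :=
        hcx ▸ (inferInstance : (Subgroup.centralizer (N : Set G)).Normal).conj_mem z hz c
      exact hx1 (hN.eq_one_of_central hc hx fun y hy =>
        (Subgroup.mem_centralizer_iff.1 hxC y hy).symm)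
    by_cases hTN : T = N
    · subst hTN
      exact hnas ⟨T, hNn, hT.isSimpleGroup, fun h => hc fun x hx z hz =>
        congrArg Subtype.val (h.is_comm.comm (⟨x, hx⟩ : T) ⟨z, hz⟩), hC⟩
    rcases hT.exists_derangement α with hfree | ⟨d, hd, hdd⟩
    · haveI : Fact (Nat.Prime 2) := ⟨Nat.prime_two⟩
      obtain ⟨p, hp, -, u, hu, hup⟩ := hT.exists_prime_ne 2
      haveI := Fact.mk hp
      obtain ⟨q, hq, hqp, v, hv, hvq⟩ := hT.exists_prime_ne p
      refine hqp ?_
      rw [← hup, ← hvq]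
      exact (hordconj u v (hconj u v
        (hfree u hu (by rintro rfl; rw [orderOf_one] at hup; exact hp.one_lt.ne hup))
        (hfree v hv (by rintro rfl; rw [orderOf_one] at hvq; exact hq.one_lt.ne hvq)))).symm
    · obtain ⟨c, hcB⟩ := hT.exists_conj_mem_centralizer hTN
      obtain ⟨u, hu, hu1⟩ := (Subgroup.bot_or_exists_ne_one T).resolve_left hT.factor.ne_bot
      have hBT : ∀ x, x ∈ T → x ∈ Subgroup.centralizer (T : Set G) → x = 1 := fun x hx hxc =>
        hT.eq_one_of_mem hx fun y hy => (Subgroup.mem_centralizer_iff.1 hxc y hy).symm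
      have hd1 : d ≠ 1 := fun h => hdd 1 (one_mem _) α (by rw [h, one_mul, one_smul])
      set e := c * u * c⁻¹ with he0
      have he : e ∈ N ⊓ Subgroup.centralizer (T : Set G) := hcB u hu
      have he1 : e ≠ 1 := fun h => hu1 (conj_eq_one_iff.1 h)
      obtain ⟨g, hg⟩ := isConj_iff.1 (hconj d (d * e) (by simpa using hdd 1 (one_mem _)) (hdd e he))
      rcases hT.conj_mem_or g with h | h
      · have h1 := h d hd
        rw [hg] at h1
        exact he1 (hBT e (by simpa using mul_mem (inv_mem hd) h1) he.2)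
      · have h1 := (h d hd).2
        rw [hg] at h1
        exact hd1 (hBT d hd (by
          simpa [mul_assoc] using Subgroup.mul_mem _ h1 (Subgroup.inv_mem _ he.2)))
  -- abelian minimal normal subgroup
  have hreg : ∀ a : Ω, stabilizer N a = ⊥ := H80.stabilizer_eq_bot_of_comm hc
  have hfree : ∀ x ∈ N, x ≠ 1 → ∀ ω : Ω, x • ω ≠ ω := by
    intro x hx hx1 ω hω
    have : (⟨x, hx⟩ : N) ∈ stabilizer N ω := hω
    rw [hreg ω, Subgroup.mem_bot] at this
    exact hx1 (congrArg Subtype.val this)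
  obtain ⟨x₀, hx₀, hx₀1⟩ := (Subgroup.bot_or_exists_ne_one _).resolve_left hN.ne_bot
  have hout : ∀ g : G, g ∉ N → ∃ ω : Ω, g • ω = ω := by
    intro g hg
    by_contra h
    push Not at h
    obtain ⟨c, hc'⟩ := isConj_iff.1 (hconj x₀ g (hfree x₀ hx₀ hx₀1) h)
    exact hg (hc' ▸ hNn.conj_mem x₀ hx₀ c)
  haveI : Nonempty Ω := ⟨α⟩
  have hcard1 : ∀ g : G, g ∉ N → Nat.card (fixedBy Ω g) = 1 := by
    intro g hg
    haveI := Fintype.ofFinite N
    have hge : ∀ x ∈ (Finset.univ : Finset N), 1 ≤ Nat.card (fixedBy Ω (g * (x : G))) := by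
      intro x _
      obtain ⟨ω, hω⟩ := hout (g * x) (fun h => hg ((Subgroup.mul_mem_cancel_right N x.2).1 h))
      have : Nonempty (fixedBy Ω (g * (x : G))) := ⟨⟨ω, hω⟩⟩
      exact Nat.card_pos
    have heq : ∑ x : N, Nat.card (fixedBy Ω (g * (x : G))) = ∑ _x : N, 1 := by
      rw [H80.sum_card_fixedBy_coset]
      simp [Nat.card_eq_fintype_card]
    simpa using ((Finset.sum_eq_sum_iff_of_le hge).1 heq.symm 1 (Finset.mem_univ _)).symm
  have hstab : ∀ b c : Ω, b ≠ α → c ≠ α → ∃ g : G, g • α = α ∧ g • b = c := by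
    intro b c hb hc'
    obtain ⟨x, rfl⟩ := exists_smul_eq N α b
    obtain ⟨y, rfl⟩ := exists_smul_eq N α c
    have hx1 : x.1 ≠ 1 := fun h => hb (by rw [Subgroup.smul_def, h, one_smul])
    have hy1 : y.1 ≠ 1 := fun h => hc' (by rw [Subgroup.smul_def, h, one_smul])
    obtain ⟨g, hg⟩ := isConj_iff.1 (hconj x.1 y.1 (hfree _ x.2 hx1) (hfree _ y.2 hy1))
    obtain ⟨m, hm⟩ := exists_smul_eq N α (g • α)
    have hk : (m.1⁻¹ * g) • α = α := by rw [mul_smul, ← hm]; exact inv_smul_smul _ _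
    refine ⟨m.1⁻¹ * g, hk, ?_⟩
    show (m.1⁻¹ * g) • x.1 • α = y.1 • α
    calc (m.1⁻¹ * g) • x.1 • α
        = (m.1⁻¹ * (g * x.1 * g⁻¹) * m.1) • (m.1⁻¹ * g) • α := by
          rw [← mul_smul, ← mul_smul]; congr 1; group
      _ = y.1 • α := by
          rw [hg, hk, hc _ (inv_mem m.2) _ y.2, inv_mul_cancel_right]
  refine ⟨?_, fun g hg a b hab ha hb => ?_⟩
  · rw [is_two_pretransitive_iff]
    intro a b c d hab hcd
    obtain ⟨g, hg⟩ := hprim.toIsPretransitive.exists_smul_eq a α
    obtain ⟨k, hk⟩ := hprim.toIsPretransitive.exists_smul_eq c α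
    obtain ⟨m, hm, hm'⟩ := hstab (g • b) (k • d)
      (fun h => hab (smul_left_cancel g (hg.trans h.symm)))
      (fun h => hcd (smul_left_cancel k (hk.trans h.symm)))
    exact ⟨k⁻¹ * m * g, by rw [mul_smul, mul_smul, hg, hm, ← hk, inv_smul_smul],
      by rw [mul_smul, mul_smul, hm', inv_smul_smul]⟩
  · by_cases hgN : g ∈ N
    · exact hfree g hgN hg a ha
    · obtain ⟨z, hz⟩ := Nat.card_eq_one_iff_exists.1 (hcard1 g hgN)
      exact hab ((congrArg Subtype.val (hz ⟨a, ha⟩)).trans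
        (congrArg Subtype.val (hz ⟨b, hb⟩)).symm)

end Cfsg.Agent.H79
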